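import Cfsg.Agent.Lib.Brauer43.Recognise

/-!
# Brauer's theorem on perfect groups with a Sylow subgroup of order `p`
-/

set_option autoImplicit false
set_option linter.style.haveILetI false
set_option linter.unusedSectionVars false

namespace CfsgLib.Brauer43

open Cfsg

universe u

variable {G : Type u} [Group G] [Finite G] {p : ℕ} [Fact p.Prime]

/-- The two exceptional isomorphism types. -/
def IsPSLorSL (G : Type u) [Group G] (p : ℕ) : Prop :=
  (∃ (F : Type) (_ : Field F) (_ : Fintype F), Fintype.card F = p ∧ 3 < p ∧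
      Nonempty (G ≃* Matrix.ProjectiveSpecialLinearGroup (Fin 2) F)) ∨
    (∃ (m : ℕ) (F : Type) (_ : Field F) (_ : Fintype F), Fintype.card F = 2 ^ m ∧ p = 2 ^ m + 1 ∧
      3 < p ∧ Nonempty (G ≃* Matrix.SpecialLinearGroup (Fin 2) F))

theorem IsPSLorSL.congr {H : Type u} [Group H] (f : G ≃* H) (h : IsPSLorSL H p) : IsPSLorSL G p := by
  rcases h with ⟨F, hF, hF', h1, h2, ⟨i⟩⟩ | ⟨m, F, hF, hF', h1, h2, h3, ⟨i⟩⟩
  · exact Or.inl ⟨F, hF, hF', h1, h2, ⟨f.trans i⟩⟩
  · exact Or.inr ⟨m, F, hF, hF', h1, h2, h3, ⟨f.trans i⟩⟩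

theorem of_setting {P : Sylow p G} {n : ℕ} (hS : Setting P n) : IsPSLorSL G p := by
  obtain ⟨e, t, a, d, ε, Xp, Xm, Y, O, D⟩ := exists_data hS
  obtain ⟨g, L⟩ := D.exists_local
  rcases D.cases with ⟨-, hd, he⟩ | ⟨hε, m, hnm, hdt, hdem, he⟩
  · obtain ⟨hn, hep⟩ := case_pos D L hd he
    exact Or.inl (psl_of_n_eq_one D hn hep)
  · rcases case_neg D L hε hnm hdt hdem he with ⟨hn, hep⟩ | ⟨he2, ha, hnt, hdp⟩
    · exact Or.inl (psl_of_n_eq_one D hn hep)
    · exact Or.inr (sl_of_e_eq_two D L hε he2 ha hnt hdp hdt)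

theorem card_quotient_sylow_ne_one {Q : Type u} [Group Q] [Finite Q] (hperf : commutator Q = ⊤)
    (P : Sylow p Q) (hP : Nat.card (P : Subgroup Q) = p) : Nat.card (Sylow p Q) ≠ 1 := by
  intro h1
  haveI := Fintype.ofFinite Q
  have hN : Subgroup.normalizer ((P : Subgroup Q) : Set Q) = ⊤ := by
    rw [← Subgroup.index_eq_one]
    exact (Sylow.card_eq_index_normalizer P).symm.trans h1
  haveI : IsCyclic (P : Subgroup Q) := isCyclic_of_prime_card hP
  haveI : Fact (Nat.card (P : Subgroup Q)).Prime := ⟨by rw [hP]; exact Fact.out⟩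
  haveI : IsCyclic (MulAut (P : Subgroup Q)) :=
    isCyclic_of_surjective (IsCyclic.mulAutMulEquiv (P : Subgroup Q)).symm.toMonoidHom
      (IsCyclic.mulAutMulEquiv (P : Subgroup Q)).symm.surjective
  letI : CommGroup (MulAut (P : Subgroup Q)) := IsCyclic.commGroup
  let φ : Q →* MulAut (P : Subgroup Q) := (P : Subgroup Q).normalizerMonoidHom.comp
    ((MulEquiv.subgroupCongr hN).trans Subgroup.topEquiv).symm.toMonoidHom
  have hker : ∀ q, φ q = 1 → q ∈ Subgroup.centralizer ((P : Subgroup Q) : Set Q) := fun q hq => by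
    have h : ((MulEquiv.subgroupCongr hN).trans Subgroup.topEquiv).symm q ∈
        (P : Subgroup Q).normalizerMonoidHom.ker := hq
    rw [Subgroup.normalizerMonoidHom_ker, Subgroup.mem_subgroupOf] at h
    exact h
  have hle : Subgroup.normalizer ((P : Subgroup Q) : Set Q) ≤
      Subgroup.centralizer ((P : Subgroup Q) : Set Q) := fun q _ =>
    hker q (Abelianization.commutator_subset_ker φ (hperf ▸ Subgroup.mem_top q))
  have h2 := two_le_autIndex (P := P) hperf hP
  rw [autIndex, Subgroup.relIndex_eq_one.2 hle] at h2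
  omega

/-- The reduction modulo the `p'`-core. -/
theorem quotient (hperf : commutator G = ⊤) (P : Sylow p G) (hP : Nat.card P = p) (n : ℕ)
    (hn : Nat.card (Sylow p G) = 1 + n * p) (hno : ¬ IsExceptional p n) :
    IsPSLorSL (G ⧸ Cfsg.pPrimeCore p G) p ∧
      Cfsg.pPrimeCore p G ≤ Subgroup.normalizer ((P : Subgroup G) : Set G) ∧
      Cfsg.pPrimeCore p G ≤ Subgroup.centralizer ((P : Subgroup G) : Set G) := by
  have hp : p.Prime := Fact.out
  set H := Cfsg.pPrimeCore p G with hH
  haveI : H.Normal := Cfsg.pPrimeCore_normal p G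
  set q := QuotientGroup.mk' H with hq
  have hqs : Function.Surjective q := QuotientGroup.mk'_surjective H
  have hdisj : ∀ x ∈ (P : Subgroup G), x ∈ H → x = 1 := fun x hx hxH => by
    by_contra hx1
    have h1 : orderOf x ∣ p := hP ▸ Subgroup.orderOf_dvd_natCard _ hx
    rcases (Nat.dvd_prime hp).1 h1 with h2 | h2
    · exact hx1 (orderOf_eq_one_iff.1 h2)
    · exact Base.not_dvd_card_pPrimeCore p G (h2.symm.dvd.trans (Subgroup.orderOf_dvd_natCard H hxH))
  obtain ⟨Q, hQ⟩ : ∃ Q : Sylow p (G ⧸ H), Q = P.mapSurjective hqs := ⟨_, rfl⟩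
  have hQc : (Q : Subgroup (G ⧸ H)) = (P : Subgroup G).map q := by rw [hQ]; rfl
  have hQcard : Nat.card (Q : Subgroup (G ⧸ H)) = p := by
    rw [hQc]
    refine (Nat.card_congr (Equiv.ofBijective
      (fun x : (P : Subgroup G) => (⟨q x, x, x.2, rfl⟩ : (P : Subgroup G).map q)) ⟨?_, ?_⟩)).symm.trans hP
    · intro x y hxy
      have h : q ((x : G)⁻¹ * y) = 1 := by
        rw [map_mul, map_inv, show q x = q y from congrArg Subtype.val hxy, inv_mul_cancel]
      exact Subtype.ext (inv_mul_eq_one.1 (hdisj _ (mul_mem (inv_mem x.2) y.2)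
        ((QuotientGroup.eq_one_iff _).1 h)))
    · rintro ⟨_, x, hx, rfl⟩; exact ⟨⟨x, hx⟩, rfl⟩
  have hqperf : commutator (G ⧸ H) = ⊤ := by
    have h := congrArg (Subgroup.map q) hperf
    rw [Subgroup.map_top_of_surjective q hqs, commutator_def, Subgroup.map_commutator,
      Subgroup.map_top_of_surjective q hqs] at h
    rw [commutator_def]; exact h
  set N := Subgroup.normalizer ((P : Subgroup G) : Set G) with hN
  have hNi : N.index = 1 + n * p := (Sylow.card_eq_index_normalizer P).symm.trans hn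
  have hle : N.map q ≤ Subgroup.normalizer ((Q : Subgroup (G ⧸ H)) : Set (G ⧸ H)) := by
    rw [hQc]; exact Subgroup.le_normalizer_map q
  have hdvd1 : Nat.card (Sylow p (G ⧸ H)) ∣ (N ⊔ H).index := by
    rw [Sylow.card_eq_index_normalizer Q]
    have h := Subgroup.index_dvd_of_le hle
    rwa [Subgroup.index_map, QuotientGroup.ker_mk', MonoidHom.range_eq_top.2 hqs, Subgroup.index_top,
      mul_one] at h
  have hdvd : Nat.card (Sylow p (G ⧸ H)) ∣ 1 + n * p :=
    hdvd1.trans (hNi ▸ Subgroup.index_dvd_of_le le_sup_left)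
  have hmod : Nat.card (Sylow p (G ⧸ H)) % p = 1 := by
    have h := card_sylow_modEq_one p (G ⧸ H)
    rwa [Nat.ModEq, Nat.mod_eq_of_lt hp.one_lt] at h
  have hne1 := card_quotient_sylow_ne_one hqperf Q hQcard
  have hnd := noDivisor_of_not_exceptional hp hno
  have heq : Nat.card (Sylow p (G ⧸ H)) = 1 + n * p := by
    refine le_antisymm (Nat.le_of_dvd (by omega) hdvd) ?_
    have h2 : Nat.card (Sylow p (G ⧸ H)) ∣ (p - 1) * (n * p + 1) := by
      rw [add_comm (n * p)]; exact Dvd.dvd.mul_left hdvd _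
    have := (hnd _ h2 hmod).resolve_left hne1
    omega
  have hS : Setting Q n :=
    { perfect := hqperf, card_P := hQcard, card_sylow := heq
      core := Base.pPrimeCore_quotient_pPrimeCore p G
      noDiv := hnd }
  have hHN : H ≤ N := by
    have h1 : N.index ≤ (N ⊔ H).index :=
      Nat.le_of_dvd (Nat.pos_of_ne_zero Subgroup.index_ne_zero_of_finite) (by
        rw [hNi, ← heq]; exact hdvd1)
    have h2 := Subgroup.relIndex_mul_index (le_sup_left : N ≤ N ⊔ H)
    have h3 : N.relIndex (N ⊔ H) = 1 := by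
      by_contra h4
      have h5 : 2 ≤ N.relIndex (N ⊔ H) := by
        have : N.relIndex (N ⊔ H) ≠ 0 := Subgroup.FiniteIndex.index_ne_zero
        omega
      have h6 := Nat.mul_le_mul_right (N ⊔ H).index h5
      rw [h2] at h6
      have := Nat.pos_of_ne_zero (Subgroup.index_ne_zero_of_finite (H := N))
      omega
    exact le_sup_right.trans (Subgroup.relIndex_eq_one.1 h3)
  refine ⟨of_setting hS, hHN, fun x hx => ?_⟩
  rw [Subgroup.mem_centralizer_iff]
  intro v hv
  have h1 : v * x * v⁻¹ * x⁻¹ ∈ H := mul_mem (Subgroup.Normal.conj_mem inferInstance x hx v) (inv_mem hx)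
  have h2 : v * x * v⁻¹ * x⁻¹ ∈ (P : Subgroup G) := by
    rw [mul_assoc, mul_assoc]
    exact mul_mem hv (by
      have := (Subgroup.mem_normalizer_iff.1 (hHN hx) _).1 (inv_mem hv)
      simpa [mul_assoc] using this)
  exact mul_inv_eq_iff_eq_mul.1 (mul_inv_eq_one.1 (hdisj _ h2 h1))

theorem sylow_card_eq (P : Sylow p G) (hP : ¬ (P : Subgroup G).Normal) (hdvd : p ∣ Nat.card G)
    (hbig : Nat.card G < p ^ 3) : Nat.card P = p := by
  have hp : p.Prime := Fact.out
  have hm := P.card_eq_multiplicity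
  have h1 : 1 ≤ (Nat.card G).factorization p :=
    (hp.dvd_iff_one_le_factorization Nat.card_pos.ne').1 hdvd
  rcases Nat.lt_or_ge ((Nat.card G).factorization p) 2 with h2 | h2
  · rw [show Nat.card P = p ^ (Nat.card G).factorization p from hm,
      show (Nat.card G).factorization p = 1 by omega, pow_one]
  · exfalso
    have hi : Nat.card (Sylow p G) ∣ (P : Subgroup G).index := P.card_dvd_index
    have hne : Nat.card (Sylow p G) ≠ 1 := fun h => by
      haveI : Subsingleton (Sylow p G) := (Nat.card_eq_one_iff_unique.1 h).1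
      exact hP P.normal_of_subsingleton
    have hmod := card_sylow_modEq_one p G
    rw [Nat.ModEq, Nat.mod_eq_of_lt hp.one_lt] at hmod
    have h3 : p + 1 ≤ Nat.card (Sylow p G) := by
      have h4 := Nat.div_add_mod (Nat.card (Sylow p G)) p
      rw [hmod] at h4
      rcases Nat.eq_zero_or_pos (Nat.card (Sylow p G) / p) with h5 | h5
      · rw [h5, mul_zero] at h4; omega
      · have := Nat.le_mul_of_pos_right p h5; omega
    have h4 := (P : Subgroup G).card_mul_index
    have h5 := Nat.le_of_dvd (Nat.pos_of_ne_zero Subgroup.index_ne_zero_of_finite) hi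
    have h6 : p ^ 2 * (p + 1) ≤ Nat.card G := by
      rw [← h4]
      refine Nat.mul_le_mul ?_ (h3.trans h5)
      rw [show Nat.card (P : Subgroup G) = p ^ (Nat.card G).factorization p from hm]
      exact Nat.pow_le_pow_right hp.pos h2
    nlinarith [hp.pos]

/-- **Brauer–Reynolds**. -/
theorem large_prime (hperf : commutator G = ⊤) (hdvd : p ∣ Nat.card G)
    (hbig : Nat.card G < p ^ 3) (P : Sylow p G) (hP : ¬ (P : Subgroup G).Normal)
    (h2 : ∀ N : Subgroup G, N.Normal → Nat.card N ≠ 2) : IsPSLorSL G p := by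
  have hp : p.Prime := Fact.out
  have hPc := sylow_card_eq P hP hdvd hbig
  haveI := Fintype.ofFinite G
  obtain ⟨n, hn⟩ : ∃ n, Nat.card (Sylow p G) = 1 + n * p := by
    refine ⟨Nat.card (Sylow p G) / p, ?_⟩
    have hmod := card_sylow_modEq_one p G
    rw [Nat.ModEq, Nat.mod_eq_of_lt hp.one_lt] at hmod
    have := Nat.div_add_mod (Nat.card (Sylow p G)) p
    rw [mul_comm]; omega
  have he := two_le_autIndex (P := P) hperf hPc
  have hG : Nat.card (Subgroup.centralizer ((P : Subgroup G) : Set G)) * (autIndex P * (n * p + 1)) =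
      Nat.card G := by
    rw [← index_centralizer (P := P) hn]; exact Subgroup.card_mul_index _
  have hPC : (P : Subgroup G) ≤ Subgroup.centralizer ((P : Subgroup G) : Set G) :=
    fun z hz w hw => Blocks.comm_of_prime_card hPc w hw z hz
  have hp2 : p * (2 * (n * p + 1)) ≤ Nat.card G := hG ▸ Nat.mul_le_mul
    ((show p = Nat.card (P : Subgroup G) from hPc.symm).le.trans (Subgroup.card_le_of_le hPC))
    (Nat.mul_le_mul_right _ he)
  have hno : ¬ IsExceptional p n := fun h => by
    have := h.large hp.one_lt.le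
    nlinarith
  obtain ⟨hiso, -, hC⟩ := quotient hperf P hPc n hn hno
  haveI : (Cfsg.pPrimeCore p G).Normal := Cfsg.pPrimeCore_normal p G
  suffices hbot : Cfsg.pPrimeCore p G = ⊥ by
    refine hiso.congr ((QuotientGroup.quotientBot (G := G)).symm.trans
      (QuotientGroup.quotientMulEquivOfEq hbot.symm))
  rw [← Subgroup.card_eq_one]
  have hH0 : 0 < Nat.card (Cfsg.pPrimeCore p G) := Nat.card_pos
  have h3 : Nat.card (Cfsg.pPrimeCore p G) ≤ 2 := by
    by_contra! hlt
    -- `C(P)` contains `H × P`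
    have hd : Nat.card (Cfsg.pPrimeCore p G) * p ∣
        Nat.card (Subgroup.centralizer ((P : Subgroup G) : Set G)) := by
      refine Nat.Coprime.mul_dvd_of_dvd_of_dvd
        ((hp.coprime_iff_not_dvd.2 (Base.not_dvd_card_pPrimeCore p G)).symm)
        (Subgroup.card_dvd_of_le hC) ?_
      conv_lhs => rw [← (hPc : Nat.card (P : Subgroup G) = p)]
      exact Subgroup.card_dvd_of_le hPC
    have h4 : 3 * p * (autIndex P * (n * p + 1)) ≤ Nat.card G := hG ▸ Nat.mul_le_mul_right _
      ((Nat.mul_le_mul_right p hlt).trans (Nat.le_of_dvd Nat.card_pos hd))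
    have hCle : p * (Nat.card (Cfsg.pPrimeCore p G)) ≤
        Nat.card (Subgroup.centralizer ((P : Subgroup G) : Set G)) := by
      rw [mul_comm]; exact Nat.le_of_dvd Nat.card_pos hd
    -- the quotient is `PSL(2, p)` or `SL(2, 2 ^ m)`, of order at least `(p ^ 3 - p) / 3`
    have hq : Nat.card (G ⧸ Cfsg.pPrimeCore p G) * Nat.card (Cfsg.pPrimeCore p G) = Nat.card G :=
      (Subgroup.card_eq_card_quotient_mul_card_subgroup _).symm
    rcases hiso with ⟨F, hF, hF', hc, hp3, ⟨i⟩⟩ | ⟨m, F, hF, hF', hc, hpm, hp3, ⟨i⟩⟩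
    · have h5 := CfsgLib.Classical.card_PSL_two_mul (F := F)
      rw [← Nat.card_congr i.toEquiv, CfsgLib.Classical.gcd_two_card_sub_one_of_odd (F := F) (by
          rw [Nat.card_eq_fintype_card, hc]; exact hp.odd_of_ne_two (by omega)),
        Nat.card_eq_fintype_card (α := F), hc] at h5
      have h6 := hq ▸ Nat.mul_le_mul_left (Nat.card (G ⧸ Cfsg.pPrimeCore p G)) hlt
      have h7 : 1 ≤ p ^ 2 := Nat.one_le_pow _ _ hp.pos
      zify [h7] at h5
      nlinarith
    · rw [Nat.card_congr i.toEquiv, CfsgLib.Classical.card_SL_two, Nat.card_eq_fintype_card, hc,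
        show 2 ^ m = p - 1 by omega] at hq
      obtain ⟨r, hr⟩ : ∃ r, p = r + 2 := ⟨p - 2, by omega⟩
      subst hr
      rw [show r + 2 - 1 = r + 1 by omega] at hq
      have h6 : (r + 1) * ((r + 1) ^ 2 - 1) * 3 ≤ Nat.card G :=
        hq ▸ Nat.mul_le_mul_left _ hlt
      have h7 : (r + 1) ^ 2 - 1 = r * (r + 2) := by rw [Nat.sub_eq_iff_eq_add (Nat.one_le_pow _ _ (by omega))]; ring
      rw [h7] at h6
      nlinarith
  have h4 := h2 (Cfsg.pPrimeCore p G) inferInstance
  omega

end CfsgLib.Brauer43
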