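import Mathlib

/-!
# Arithmetic of Brauer's number `n`
-/

set_option autoImplicit false

namespace CfsgLib.Brauer43

/-- No divisor of `(p - 1)(np + 1)` congruent to one lies strictly between `1` and `np + 1`. -/
def NoDivisor (p n : ℕ) : Prop :=
  ∀ D : ℕ, D ∣ (p - 1) * (n * p + 1) → D % p = 1 → D = 1 ∨ n * p + 1 ≤ D

/-- The exceptional form of `n`. -/
def IsExceptional (p n : ℕ) : Prop :=
  ∃ h u : ℕ, 0 < h ∧ 0 < u ∧ n * (u + 1) = h * u * p + u ^ 2 + u + h

theorem exceptional_of_divisor {p n D : ℕ} (hp : p.Prime)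
    (hD : D ∣ (p - 1) * (n * p + 1)) (hmod : D % p = 1) (h1 : 1 < D) (h2 : D < n * p + 1) :
    IsExceptional p n := by
  obtain ⟨u, rfl⟩ : ∃ u, D = u * p + 1 :=
    ⟨D / p, by rw [mul_comm]; have := Nat.div_add_mod D p; omega⟩
  have hu : 0 < u := Nat.pos_of_ne_zero fun h => by simp [h] at h1
  have hpD : Nat.Coprime (u * p + 1) p := by
    refine (Nat.coprime_comm.1 (hp.coprime_iff_not_dvd.2 fun h => ?_))
    rw [Nat.dvd_iff_mod_eq_zero] at h; omega
  have h3 : (u * p + 1) ∣ (u + 1) * (n * p + 1) := by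
    refine hpD.dvd_of_dvd_mul_right ?_
    have h4 := dvd_add (dvd_mul_right (u * p + 1) (n * p + 1)) hD
    rwa [show (u * p + 1) * (n * p + 1) + (p - 1) * (n * p + 1) = (u + 1) * (n * p + 1) * p by
      rw [← add_mul, show u * p + 1 + (p - 1) = (u + 1) * p by have := hp.two_le; rw [add_mul]; omega]
      ring] at h4
  obtain ⟨C, hC⟩ := h3
  have hCu : u + 1 < C := by
    by_contra! h
    have h5 : (u + 1) * (n * p + 1) ≤ (u + 1) * (u * p + 1) := by
      rw [hC, mul_comm]; exact Nat.mul_le_mul_right _ h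
    have := Nat.le_of_mul_le_mul_left h5 u.succ_pos
    omega
  have hCmod : (u + 1) ≡ C [MOD p] := by
    have e : ∀ k : ℕ, k * p + 1 ≡ 1 [MOD p] := fun k => by simp [Nat.ModEq]
    calc u + 1 ≡ (u + 1) * (n * p + 1) [MOD p] := by
          conv_lhs => rw [← mul_one (u + 1)]
          exact ((e n).symm).mul_left _
      _ = (u * p + 1) * C := hC
      _ ≡ 1 * C [MOD p] := (e u).mul_right _
      _ = C := one_mul C
  obtain ⟨h, hh⟩ := (Nat.modEq_iff_dvd' hCu.le).1 hCmod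
  have hCeq : C = u + 1 + p * h := by omega
  have hh0 : 0 < h := Nat.pos_of_ne_zero fun e => by simp [e] at hh; omega
  refine ⟨h, u, hh0, hu, ?_⟩
  rw [hCeq] at hC
  apply Nat.eq_of_mul_eq_mul_right hp.pos
  nlinarith

theorem noDivisor_of_not_exceptional {p n : ℕ} (hp : p.Prime) (h : ¬ IsExceptional p n) :
    NoDivisor p n := fun D hD hmod => by
  by_contra! hc
  obtain ⟨hc1, hc2⟩ := hc
  refine h (exceptional_of_divisor hp hD hmod ?_ hc2)
  rcases D with _ | D
  · simp at hmod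
  · omega

/-- Exceptional values are at least `(p + 3) / 2`. -/
theorem IsExceptional.bound {p n : ℕ} (hp : 1 ≤ p) (h : IsExceptional p n) : p + 3 ≤ 2 * n := by
  obtain ⟨h, u, hh, hu, e⟩ := h
  obtain ⟨h, rfl⟩ : ∃ k, h = k + 1 := ⟨h - 1, by omega⟩
  obtain ⟨u, rfl⟩ : ∃ k, u = k + 1 := ⟨u - 1, by omega⟩
  obtain ⟨p, rfl⟩ : ∃ k, p = k + 1 := ⟨p - 1, by omega⟩
  by_contra hlt
  have h2 : 2 * n + 1 ≤ p + 4 := by omega
  have h3 := Nat.mul_le_mul_right (u + 1 + 1) h2
  nlinarith [Nat.zero_le (u * p), Nat.zero_le (h * u * p), Nat.zero_le (h * u), Nat.zero_le (h * p),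
    Nat.zero_le (u * u)]

/-- A group of order below `p ^ 3` is not exceptional. -/
theorem IsExceptional.large {p n : ℕ} (hp : 1 ≤ p) (h : IsExceptional p n) :
    p ^ 3 < 2 * p * (n * p + 1) := by
  have h1 := h.bound hp
  nlinarith [Nat.mul_le_mul_left (p * p) h1]

end CfsgLib.Brauer43
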