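import Cfsg.Agent.Lib.Chars.Basic
import Cfsg.Agent.Lib.Chars.PermChar
import Cfsg.Agent.Lib.Chars.Integral
import Cfsg.Agent.Lib.CharApps.Basic

/-!
# Averages of irreducible characters over nested subgroups
-/

set_option autoImplicit false
set_option linter.style.haveILetI false
set_option linter.unusedSectionVars false

namespace CfsgLib.Brauer43

open Cfsg CfsgLib.Chars Finset
open scoped ComplexConjugate

universe u v

variable {G : Type u} [Group G] [Finite G]

/-- The multiplicity of the principal character in a restriction. -/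
noncomputable def mult (H : Subgroup G) (χ : IrrCharacter G) : ℕ :=
  ⌊((Nat.card H : ℂ)⁻¹ * ∑ᶠ h : H, (χ : G → ℂ) h).re⌋₊

theorem exists_projections (H K : Subgroup G) (hHK : H ≤ K) (χ : IrrCharacter G) :
    ∃ k r : ℕ, ∑ᶠ h : H, (χ : G → ℂ) h = (Nat.card H : ℂ) * k ∧
      ∑ᶠ h : K, (χ : G → ℂ) h = (Nat.card K : ℂ) * r ∧ r ≤ k ∧ k ≤ charDegree (χ : G → ℂ) ∧
      (r = k → ∀ n ∈ K, ∑ᶠ h : H, (χ : G → ℂ) (n * h) = (Nat.card H : ℂ) * k) := by
  classical
  obtain ⟨χ, d, ρ, hρ, rfl⟩ := χ
  let E : Subgroup G → Module.End ℂ (Fin d → ℂ) := fun L =>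
    (Nat.card L : ℂ)⁻¹ • ∑ᶠ h : L, ρ (h : G)
  have hmul : ∀ L : Subgroup G, ∀ x ∈ L, E L * ρ x = E L ∧ ρ x * E L = E L := by
    intro L x hx
    haveI := Fintype.ofFinite L
    simp only [E, finsum_eq_sum_of_fintype, smul_mul_assoc, mul_smul_comm, Finset.sum_mul,
      Finset.mul_sum]
    constructor <;> congr 1
    · exact Fintype.sum_equiv (Equiv.mulRight ⟨x, hx⟩) _ _ fun v => by rw [← map_mul]; rfl
    · exact Fintype.sum_equiv (Equiv.mulLeft ⟨x, hx⟩) _ _ fun v => by rw [← map_mul]; rfl
  have havg : ∀ (L : Subgroup G) (A : Module.End ℂ (Fin d → ℂ)),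
      (∀ x ∈ L, A * ρ x = A) → A * E L = A := by
    intro L A hA
    haveI := Fintype.ofFinite L
    simp only [E, finsum_eq_sum_of_fintype, mul_smul_comm, Finset.mul_sum]
    rw [Finset.sum_congr rfl fun x _ => hA _ x.2, Finset.sum_const, Finset.card_univ,
      ← Nat.card_eq_fintype_card, ← Nat.cast_smul_eq_nsmul ℂ, smul_smul,
      inv_mul_cancel₀ (card_ne_zero L), one_smul]
  have havg' : ∀ (L : Subgroup G) (A : Module.End ℂ (Fin d → ℂ)),
      (∀ x ∈ L, ρ x * A = A) → E L * A = A := by
    intro L A hA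
    haveI := Fintype.ofFinite L
    simp only [E, finsum_eq_sum_of_fintype, smul_mul_assoc, Finset.sum_mul]
    rw [Finset.sum_congr rfl fun x _ => hA _ x.2, Finset.sum_const, Finset.card_univ,
      ← Nat.card_eq_fintype_card, ← Nat.cast_smul_eq_nsmul ℂ, smul_smul,
      inv_mul_cancel₀ (card_ne_zero L), one_smul]
  have hrank : ∀ L : Subgroup G, LinearMap.trace ℂ _ (E L) =
      (Module.finrank ℂ (LinearMap.range (E L)) : ℂ) := by
    intro L
    refine LinearMap.IsProj.trace ⟨fun w => LinearMap.mem_range_self _ w, fun w hw => ?_⟩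
    obtain ⟨y, rfl⟩ := hw
    rw [← Module.End.mul_apply, havg L _ fun x hx => (hmul L x hx).1]
  have htr : ∀ (L : Subgroup G) (n : G), LinearMap.trace ℂ _ (ρ n * E L) =
      (Nat.card L : ℂ)⁻¹ * ∑ᶠ h : L, ρ.character (n * h) := by
    intro L n
    haveI := Fintype.ofFinite L
    simp only [E, finsum_eq_sum_of_fintype, mul_smul_comm, Finset.mul_sum, map_smul, map_sum,
      smul_eq_mul, ← map_mul]
    rfl
  have hsum : ∀ L : Subgroup G, ∑ᶠ h : L, ρ.character h =
      (Nat.card L : ℂ) * (Module.finrank ℂ (LinearMap.range (E L)) : ℂ) := by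
    intro L
    have h := htr L 1
    rw [map_one, one_mul, hrank] at h
    rw [h, mul_inv_cancel_left₀ (card_ne_zero L)]
    exact finsum_congr fun h => by rw [one_mul]
  have hKH : E H * E K = E K := havg' H _ fun x hx => (hmul K x (hHK hx)).2
  have hHK' : E K * E H = E K := havg H _ fun x hx => (hmul K x (hHK hx)).1
  have hle : LinearMap.range (E K) ≤ LinearMap.range (E H) := by
    rintro _ ⟨y, rfl⟩
    exact ⟨E K y, by rw [← Module.End.mul_apply, hKH]⟩
  refine ⟨_, _, hsum H, hsum K, Submodule.finrank_mono hle, ?_, fun heq n hn => ?_⟩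
  · refine (Submodule.finrank_le _).trans ?_
    rw [Module.finrank_fin_fun]
    show d ≤ ⌊(ρ.character 1).re⌋₊
    rw [Representation.char_one, Module.finrank_fin_fun]
    simp
  · have hr := Submodule.eq_of_le_of_finrank_eq hle heq
    have he : E K = E H := by
      refine LinearMap.ext fun v => ?_
      obtain ⟨y, hy⟩ : E H v ∈ LinearMap.range (E K) := hr ▸ LinearMap.mem_range_self _ v
      rw [show E K v = E K (E H v) by rw [← Module.End.mul_apply, hHK'], ← hy,
        ← Module.End.mul_apply, havg K _ fun x hx => (hmul K x hx).1]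
    have h := htr H n
    rw [← he, (hmul K n hn).2, he, hrank H] at h
    rw [h, mul_inv_cancel_left₀ (card_ne_zero H)]

theorem sum_eq_mult (H : Subgroup G) (χ : IrrCharacter G) :
    ∑ᶠ h : H, (χ : G → ℂ) h = (Nat.card H : ℂ) * mult H χ := by
  obtain ⟨k, r, h, -, -, -, -⟩ := exists_projections H H le_rfl χ
  rw [mult, h, inv_mul_cancel_left₀ (card_ne_zero H), Complex.natCast_re, Nat.floor_natCast]

theorem eq_mult {H : Subgroup G} {χ : IrrCharacter G} {k : ℕ}
    (h : ∑ᶠ h : H, (χ : G → ℂ) h = (Nat.card H : ℂ) * k) : mult H χ = k := by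
  rw [sum_eq_mult] at h
  exact_mod_cast mul_left_cancel₀ (card_ne_zero H) h

theorem mult_mono {H K : Subgroup G} (hHK : H ≤ K) (χ : IrrCharacter G) :
    mult K χ ≤ mult H χ := by
  obtain ⟨k, r, hk, hr, hle, -, -⟩ := exists_projections H K hHK χ
  rwa [eq_mult hk, eq_mult hr]

theorem mult_le_degree (H : Subgroup G) (χ : IrrCharacter G) :
    mult H χ ≤ charDegree (χ : G → ℂ) := by
  obtain ⟨k, r, hk, -, -, hle, -⟩ := exists_projections H H le_rfl χ
  rwa [eq_mult hk]

theorem sum_coset_of_mult_eq {H K : Subgroup G} (hHK : H ≤ K) {χ : IrrCharacter G}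
    (h : mult K χ = mult H χ) {n : G} (hn : n ∈ K) :
    ∑ᶠ h : H, (χ : G → ℂ) (n * h) = (Nat.card H : ℂ) * mult H χ := by
  obtain ⟨k, r, hk, hr, -, -, heq⟩ := exists_projections H K hHK χ
  rw [eq_mult hk, eq_mult hr] at h
  rw [eq_mult hk]
  exact heq h n hn

theorem mult_principal (H : Subgroup G) : mult H (principal G) = 1 :=
  eq_mult (by
    haveI := Fintype.ofFinite H
    simp [finsum_eq_sum_of_fintype, principal_apply, Nat.card_eq_fintype_card])

/-- The permutation character as a sum of irreducible characters. -/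
theorem fixedBy_eq_sum [Fintype (IrrCharacter G)] {X : Type v} [MulAction G X] [Finite X]
    [MulAction.IsPretransitive G X] (x : X) (g : G) :
    (Nat.card (MulAction.fixedBy X g) : ℂ) =
      ∑ χ : IrrCharacter G, (mult (MulAction.stabilizer G x) χ : ℂ) * (χ : G → ℂ) g := by
  classical
  haveI := Fintype.ofFinite G
  haveI := Fintype.ofFinite (MulAction.stabilizer G x)
  have hc := isCharacter_fixedBy (G := G) (X := X)
  have hcoef : ∀ χ : IrrCharacter G,
      classInner (fun g : G => (Nat.card (MulAction.fixedBy X g) : ℂ)) (χ : G → ℂ) =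
        (mult (MulAction.stabilizer G x) χ : ℂ) := by
    intro χ
    conv_lhs => arg 1; rw [← indFun_stabilizer_one x]
    rw [← inner_conj, inner_indFun_right (MulAction.stabilizer G x) _ (isClassFunction_irr χ),
      inner_def]
    simp only [map_one, mul_one]
    rw [← finsum_eq_sum_of_fintype, sum_eq_mult, inv_mul_cancel_left₀ (card_ne_zero _),
      map_natCast]
  have h := congrFun (classFun_eq_sum (isClassFunction_of_isCharacter hc)) g
  simp only [Finset.sum_apply, Pi.smul_apply, smul_eq_mul] at h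
  rw [h]
  exact Finset.sum_congr rfl fun χ _ => by rw [hcoef]

/-- A rational integral nonzero value bounds the degree by the class length. -/
theorem degree_dvd_of_int {ι : Type*} (s : Finset ι) (χ : ι → IrrCharacter G) {x : G} {d : ℕ}
    (hd : ∀ i ∈ s, charDegree (χ i : G → ℂ) = d) {c : ℤ} (hd0 : d ≠ 0)
    (hc : ∑ i ∈ s, (χ i : G → ℂ) x = c) :
    d ∣ (Subgroup.centralizer ({x} : Set G)).index * c.natAbs := by
  haveI := Fintype.ofFinite G
  set K := (Subgroup.centralizer ({x} : Set G)).index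
  have h : IsIntegral ℤ (∑ i ∈ s, (K : ℂ) * (χ i : G → ℂ) x / (d : ℂ)) := by
    refine IsIntegral.sum _ fun i hi => ?_
    have h1 := irr_isIntegral_centralChar (χ i).2 x
    rwa [← index_centralizer_eq, CharApps.deg_eq, hd i hi] at h1
  rw [← Finset.sum_div, ← Finset.mul_sum, hc] at h
  refine dvd_of_isIntegral_div hd0 ?_
  rcases Int.natAbs_eq c with e | e
  · rw [e] at h; push_cast at h ⊢; simpa using h
  · rw [e] at h; push_cast at h ⊢
    have := h.neg
    simpa [neg_div] using this

end CfsgLib.Brauer43
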