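import Cfsg.Agent.S4441
import Cfsg.Agent.Lib.Blocks.DefectOnePrincipal
import Cfsg.Agent.Lib.CharApps.Basic
import Cfsg.Agent.Lib.Brauer43.Arith
import Cfsg.Agent.Lib.Base.Cores
import Cfsg.Agent.Lib.CharApps.AbelianSylow

/-!
# The principal block of a perfect group with a Sylow subgroup of order `p`
-/

set_option autoImplicit false
set_option linter.style.haveILetI false
set_option linter.unusedSectionVars false

namespace CfsgLib.Brauer43

open Cfsg CfsgLib.Chars Finset
open scoped ComplexConjugate commutatorElement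

universe u

variable {G : Type u} [Group G] [Finite G] {p : ℕ} [Fact p.Prime]

/-- A perfect group with trivial `p'`-core, Sylow subgroup of order `p` and `n` not exceptional. -/
structure Setting (P : Sylow p G) (n : ℕ) : Prop where
  perfect : commutator G = ⊤
  card_P : Nat.card (P : Subgroup G) = p
  card_sylow : Nat.card (Sylow p G) = 1 + n * p
  core : Cfsg.pPrimeCore p G = ⊥
  noDiv : NoDivisor p n

variable {P : Sylow p G} {n : ℕ}

/-- The index of the centralizer in the normalizer. -/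
noncomputable def autIndex (P : Sylow p G) : ℕ :=
  (Subgroup.centralizer ((P : Subgroup G) : Set G)).relIndex
    (Subgroup.normalizer ((P : Subgroup G) : Set G))

theorem centralizer_singleton_eq (hP : Nat.card (P : Subgroup G) = p) {x : G}
    (hx : x ∈ (P : Subgroup G)) (hx1 : x ≠ 1) :
    Subgroup.centralizer ({x} : Set G) = Subgroup.centralizer ((P : Subgroup G) : Set G) := by
  haveI := Fintype.ofFinite G
  rw [← Blocks.zpowers_eq_of_prime_card hP hx hx1, Subgroup.zpowers_eq_closure,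
    Subgroup.centralizer_closure]

theorem autIndex_dvd (hP : Nat.card (P : Subgroup G) = p) : autIndex P ∣ p - 1 := by
  haveI := Fintype.ofFinite G
  haveI : IsCyclic (P : Subgroup G) := isCyclic_of_prime_card hP
  haveI : Fact (Nat.card (P : Subgroup G)).Prime := ⟨by rw [hP]; exact Fact.out⟩
  rw [autIndex, ← Blocks.card_range_normalizerMonoidHom]
  refine (Subgroup.card_subgroup_dvd_card _).trans ?_
  rw [IsCyclic.card_mulAut, hP, Nat.totient_prime Fact.out]

theorem two_le_autIndex (hperf : commutator G = ⊤) (hP : Nat.card (P : Subgroup G) = p) :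
    2 ≤ autIndex P := by
  by_contra hlt
  have h0 : autIndex P ≠ 0 := Subgroup.FiniteIndex.index_ne_zero
  have h1 : autIndex P = 1 := by omega
  have hle : Subgroup.normalizer ((P : Subgroup G) : Set G) ≤
      Subgroup.centralizer ((P : Subgroup G) : Set G) := Subgroup.relIndex_eq_one.1 h1
  set K := (MonoidHom.transferSylow P hle).ker
  have hc := MonoidHom.ker_transferSylow_isComplement' P hle
  have hi : K.index = p := by rw [hc.symm.index_eq_card, hP]
  haveI : IsCyclic (G ⧸ K) := isCyclic_of_prime_card (p := p) hi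
  have : commutator G ≤ K := by
    rw [← Subgroup.Normal.quotient_commutative_iff_commutator_le]
    exact IsCyclic.isMulCommutative
  rw [hperf, top_le_iff] at this
  rw [this, Subgroup.index_top] at hi
  exact (Fact.out : p.Prime).ne_one hi.symm

theorem ne_two (hperf : commutator G = ⊤) (hP : Nat.card (P : Subgroup G) = p) : p ≠ 2 := by
  intro h
  have h1 := Nat.le_of_dvd (by omega) (autIndex_dvd hP)
  have h2 := two_le_autIndex hperf hP
  omega

theorem not_sq_dvd (hP : Nat.card (P : Subgroup G) = p) : ¬ p ^ 2 ∣ Nat.card G := by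
  intro h
  have hp : p.Prime := Fact.out
  have h1 := P.card_eq_multiplicity
  rw [hP] at h1
  have h2 := (hp.pow_dvd_iff_le_factorization Nat.card_pos.ne').1 h
  have h3 : (Nat.card G).factorization p = 1 :=
    Nat.pow_right_injective hp.two_le (show p ^ (Nat.card G).factorization p = p ^ 1 by
      rw [pow_one, ← h1])
  omega

theorem index_centralizer (hn : Nat.card (Sylow p G) = 1 + n * p) :
    (Subgroup.centralizer ((P : Subgroup G) : Set G)).index = autIndex P * (n * p + 1) := by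
  rw [autIndex, add_comm (n * p), ← hn, Sylow.card_eq_index_normalizer P]
  exact (Subgroup.relIndex_mul_index (Subgroup.centralizer_le_normalizer _)).symm

theorem one_le_n (hS : Setting P n) : 1 ≤ n := by
  by_contra h
  obtain rfl : n = 0 := by omega
  haveI := Fintype.ofFinite G
  have hN : Subgroup.normalizer ((P : Subgroup G) : Set G) = ⊤ := by
    rw [← Subgroup.index_eq_one]
    refine (Sylow.card_eq_index_normalizer P).symm.trans ?_
    rw [hS.card_sylow, zero_mul, add_zero]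
  set φ := (P : Subgroup G).normalizerMonoidHom
  haveI : IsCyclic (P : Subgroup G) := isCyclic_of_prime_card hS.card_P
  have hle : commutator G ≤ Subgroup.centralizer ((P : Subgroup G) : Set G) := by
    rw [commutator_def, Subgroup.commutator_le]
    intro a _ b _
    have ha : a ∈ Subgroup.normalizer ((P : Subgroup G) : Set G) := hN ▸ Subgroup.mem_top a
    have hb : b ∈ Subgroup.normalizer ((P : Subgroup G) : Set G) := hN ▸ Subgroup.mem_top b
    have hk : ⁅(⟨a, ha⟩ : Subgroup.normalizer ((P : Subgroup G) : Set G)), ⟨b, hb⟩⁆ ∈ φ.ker := by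
      rw [MonoidHom.mem_ker, map_commutatorElement, commutatorElement_eq_one_iff_mul_comm]
      exact MulEquiv.ext fun z => by
        obtain ⟨i, hi⟩ := MonoidHom.map_cyclic (φ ⟨a, ha⟩).toMonoidHom
        obtain ⟨j, hj⟩ := MonoidHom.map_cyclic (φ ⟨b, hb⟩).toMonoidHom
        have hi' : ∀ w, φ ⟨a, ha⟩ w = w ^ i := hi
        have hj' : ∀ w, φ ⟨b, hb⟩ w = w ^ j := hj
        simp only [MulAut.mul_apply, hi', hj', ← zpow_mul, mul_comm]
    rw [Subgroup.normalizerMonoidHom_ker, Subgroup.mem_subgroupOf] at hk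
    exact hk
  rw [hS.perfect, top_le_iff] at hle
  have h2 := two_le_autIndex hS.perfect hS.card_P
  rw [autIndex, hle, Subgroup.relIndex_top_left] at h2
  omega

open scoped Classical in
/-- The principal block: the sets `X` and `Y`, normalized so that the principal character is in `X`. -/
theorem exists_block_data (hperf : commutator G = ⊤) (hP : Nat.card (P : Subgroup G) = p) :
    ∃ (X Y : Finset (IrrCharacter G)) (εX : IrrCharacter G → ℤ) (ε : ℤ),
      principal G ∈ X ∧ εX (principal G) = 1 ∧ Disjoint X Y ∧ X.card = autIndex P ∧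
      Y.card * autIndex P = p - 1 ∧ (ε = 1 ∨ ε = -1) ∧
      (∀ χ ∈ X, (εX χ = 1 ∨ εX χ = -1) ∧ (charDegree (χ : G → ℂ) : ℤ) ≡ εX χ [ZMOD p] ∧
        ∀ x : G, x ∈ (P : Subgroup G) → x ≠ 1 → ∀ y : G,
          y ∈ Subgroup.centralizer ((P : Subgroup G) : Set G) → ¬ p ∣ orderOf y →
            (χ : G → ℂ) (x * y) = (εX χ : ℂ)) ∧
      (∀ θ ∈ Y, (charDegree (θ : G → ℂ) : ℤ) ≡ ε * (autIndex P : ℤ) [ZMOD p]) ∧
      (∀ θ ∈ Y, ∀ g : G, ¬ p ∣ orderOf g →
        (ε : ℂ) * (θ : G → ℂ) g = ∑ χ ∈ X, (εX χ : ℂ) * (χ : G → ℂ) g) ∧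
      (∀ x : G, x ∈ (P : Subgroup G) → x ≠ 1 → ∑ θ ∈ Y, (θ : G → ℂ) x = -(ε : ℂ)) ∧
      (∀ x : G, x ∈ (P : Subgroup G) → x ≠ 1 →
        ∑ χ ∈ X, (χ : G → ℂ) x * conj ((χ : G → ℂ) x) +
          ∑ θ ∈ Y, (θ : G → ℂ) x * conj ((θ : G → ℂ) x) = (p : ℂ)) := by
  haveI := Fintype.ofFinite G
  haveI := irrFintype G
  have hp : p.Prime := Fact.out
  obtain ⟨M, hM⟩ := CharApps.exists_pModular p
  haveI := hM.2.1.isPrime
  obtain ⟨Xs, Ys, hB, hdisj, hXc, hYc, εX, ε, hX, hε, hY, -, hrel⟩ :=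
    Cfsg.Agent.S4441.result p M hM (ne_two hperf hP) P hP (autIndex P) rfl
  have he2 := two_le_autIndex hperf hP
  have hed := autIndex_dvd hP
  set e := autIndex P
  have hle : e ≤ p - 1 := Nat.le_of_dvd (by have := hp.two_le; omega) hed
  have hYe : Ys.toFinset.card * e = p - 1 := by
    rw [← Set.ncard_eq_toFinset_card', ← Nat.card_coe_set_eq, hYc, Nat.div_mul_cancel hed]
  have hXc' : Xs.toFinset.card = e := by
    rw [← Set.ncard_eq_toFinset_card', ← Nat.card_coe_set_eq, hXc]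
  have hBF : ∀ χ : IrrCharacter G, χ ∈ principalBlock M G ↔ χ ∈ Xs.toFinset ∪ Ys.toFinset := fun χ => by
    simp [hB]
  have h1reg : ¬ p ∣ orderOf (1 : G) := by simp [hp.ne_one]
  have hX1 : ∀ χ ∈ Xs, ∀ x : G, x ∈ (P : Subgroup G) → x ≠ 1 → (χ : G → ℂ) x = (εX χ : ℂ) :=
    fun χ hχ x hx hx1 => by
      have h := (hX χ hχ).2.2 x hx hx1 1 (one_mem _) h1reg
      rwa [mul_one] at h
  have hrel' : ∀ θ ∈ Ys, ∀ g : G, ¬ p ∣ orderOf g →
      (ε : ℂ) * (θ : G → ℂ) g = ∑ χ ∈ Xs.toFinset, (εX χ : ℂ) * (χ : G → ℂ) g := fun θ hθ g hg => by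
    rw [hrel θ hθ g hg, ← finsum_mem_coe_finset, Set.coe_toFinset]
  -- column orthogonality
  haveI : Fintype {χ : IrrCharacter G // χ ∈ principalBlock M G} := Fintype.ofFinite _
  have hsumY : ∀ x : G, x ∈ (P : Subgroup G) → x ≠ 1 →
      ∑ θ ∈ Ys.toFinset, (θ : G → ℂ) x = -(ε : ℂ) := by
    intro x hx hx1
    have hxp : ∃ k : ℕ, x ^ p ^ k = 1 :=
      ⟨1, by rw [pow_one]; exact Modular.pow_p_eq_one hP hx⟩
    have h := Blocks.principal_deg (G := G) hM h1reg hxp hx1
    rw [← Finset.sum_subtype _ (fun χ => (hBF χ).symm)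
      (fun χ : IrrCharacter G => (χ : G → ℂ) 1 * (χ : G → ℂ) x),
      Finset.sum_union (Set.disjoint_toFinset.2 hdisj)] at h
    rcases Ys.eq_empty_or_nonempty with h0 | ⟨θ₀, hθ₀⟩
    · exfalso
      simp only [h0, Set.toFinset_empty, Finset.card_empty, zero_mul] at hYe
      have := hp.two_le; omega
    have hεε : (ε : ℂ) * ε = 1 := by rcases hε with e' | e' <;> rw [e'] <;> norm_num
    have hθd : ∀ θ ∈ Ys, (θ : G → ℂ) 1 = (θ₀ : G → ℂ) 1 := fun θ hθ => by
      have := (hrel' θ hθ 1 h1reg).trans (hrel' θ₀ hθ₀ 1 h1reg).symm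
      exact mul_left_cancel₀ (left_ne_zero_of_mul_eq_one hεε) this
    have hsX : ∑ χ ∈ Xs.toFinset, (χ : G → ℂ) 1 * (χ : G → ℂ) x = (ε : ℂ) * (θ₀ : G → ℂ) 1 := by
      rw [hrel' θ₀ hθ₀ 1 h1reg]
      exact Finset.sum_congr rfl fun χ hχ => by
        rw [hX1 χ (Set.mem_toFinset.1 hχ) x hx hx1, mul_comm]
    rw [hsX, Finset.sum_congr rfl fun θ hθ => by rw [hθd θ (Set.mem_toFinset.1 hθ)],
      ← Finset.mul_sum, mul_comm (ε : ℂ), ← mul_add, mul_eq_zero] at h
    exact eq_neg_of_add_eq_zero_right (h.resolve_left (CharApps.deg_ne_zero θ₀))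
  have hnorm : ∀ x : G, x ∈ (P : Subgroup G) → x ≠ 1 →
      ∑ χ ∈ Xs.toFinset ∪ Ys.toFinset, (χ : G → ℂ) x * conj ((χ : G → ℂ) x) = (p : ℂ) := by
    intro x hx hx1
    have hfree := Blocks.free_of_prime_card hP
    have h := Blocks.principal_orth (G := G) hM P (Blocks.comm_of_prime_card hP) hfree
      (u := ⟨x, hx⟩) (v := ⟨x, hx⟩) (fun e' => hx1 (congrArg Subtype.val e'))
      (fun e' => hx1 (congrArg Subtype.val e'))
    rw [← Finset.sum_subtype _ (fun χ => (hBF χ).symm)
      (fun χ : IrrCharacter G => (χ : G → ℂ) x * conj ((χ : G → ℂ) x)), hP] at h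
    rw [h]
    convert mul_one (p : ℂ)
    rw [Nat.cast_eq_one, Finset.card_eq_one]
    refine ⟨1, Finset.eq_singleton_iff_unique_mem.2 ⟨by simp, ?_⟩⟩
    rintro ⟨_, ⟨⟨m, hm⟩, rfl⟩⟩ hσ
    have hfix : m * x * m⁻¹ = x := congrArg Subtype.val (Finset.mem_filter.1 hσ).2
    refine Subtype.ext ?_
    rw [OneMemClass.coe_one, ← MonoidHom.mem_ker, Subgroup.normalizerMonoidHom_ker,
      Subgroup.mem_subgroupOf]
    exact hfree m hm x hx hx1 hfix
  have hpr : principal G ∈ Xs.toFinset ∪ Ys.toFinset :=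
    (hBF _).1 (Blocks.principal_mem_principalBlock M)
  have hp1 : ∀ g : G, (principal G : G → ℂ) g = 1 := principal_apply
  have hpd : charDegree (principal G : G → ℂ) = 1 :=
    Nat.cast_injective (R := ℂ) (by rw [← CharApps.deg_eq, hp1, Nat.cast_one])
  rcases Finset.mem_union.1 hpr with hpX | hpY
  · refine ⟨Xs.toFinset, Ys.toFinset, εX, ε, hpX, ?_, Set.disjoint_toFinset.2 hdisj, hXc', hYe, hε,
      fun χ hχ => hX χ (Set.mem_toFinset.1 hχ), fun θ hθ => hY θ (Set.mem_toFinset.1 hθ),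
      fun θ hθ => hrel' θ (Set.mem_toFinset.1 hθ), hsumY, fun x hx hx1 =>
        (Finset.sum_union (Set.disjoint_toFinset.2 hdisj)).symm.trans (hnorm x hx hx1)⟩
    haveI : Nontrivial (P : Subgroup G) := Finite.one_lt_card_iff_nontrivial.1 (hp.one_lt.trans_eq hP.symm)
    obtain ⟨x, hx⟩ := exists_ne (1 : (P : Subgroup G))
    have h := hX1 _ (Set.mem_toFinset.1 hpX) x x.2 fun e' => hx (Subtype.ext e')
    rw [hp1] at h
    exact_mod_cast h.symm
  -- the principal character is the only exceptional one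
  have hmod := hY _ (Set.mem_toFinset.1 hpY)
  rw [hpd] at hmod
  have hee : e = p - 1 ∧ ε = -1 := by
    rcases hε with e' | e' <;> subst e'
    · exfalso
      have h1 : (1 : ℕ) ≡ e [MOD p] := Int.natCast_modEq_iff.1 (by simpa using hmod)
      have h2 := (Nat.modEq_iff_dvd' (by omega)).1 h1
      have := Nat.le_of_dvd (by omega) h2
      omega
    · refine ⟨?_, rfl⟩
      have h1 : (p : ℤ) ∣ ((e + 1 : ℕ) : ℤ) := by
        rw [← dvd_neg]; simpa [sub_eq_add_neg, add_comm, add_left_comm] using hmod.dvd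
      have := Nat.le_of_dvd (by omega) (Int.natCast_dvd_natCast.1 h1)
      omega
  obtain ⟨he, rfl⟩ := hee
  have hY1 : Ys.toFinset = {principal G} := by
    refine Finset.eq_singleton_iff_unique_mem.2 ⟨hpY, fun θ hθ => ?_⟩
    have h1 : Ys.toFinset.card = 1 := by
      rw [he] at hYe
      exact Nat.eq_of_mul_eq_mul_right (by omega) (hYe.trans (one_mul _).symm)
    exact Finset.card_le_one.1 h1.le θ hθ _ hpY
  obtain ⟨χ₀, hχ₀⟩ : Xs.toFinset.Nonempty := Finset.card_pos.1 (by omega)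
  have hne : χ₀ ≠ principal G := fun e' => Finset.disjoint_left.1
    (Set.disjoint_toFinset.2 hdisj) hχ₀ (e' ▸ hpY)
  have hs := (hX χ₀ (Set.mem_toFinset.1 hχ₀)).1
  let εX' : IrrCharacter G → ℤ := fun χ => if χ = principal G then 1 else εX χ
  have hnot : principal G ∉ Xs.toFinset.erase χ₀ := fun h =>
    Finset.disjoint_left.1 (Set.disjoint_toFinset.2 hdisj) (Finset.mem_of_mem_erase h) hpY
  have hr0 : ∀ g : G, ¬ p ∣ orderOf g → (-(εX χ₀ : ℤ) : ℂ) * (χ₀ : G → ℂ) g =
      ∑ χ ∈ insert (principal G) (Xs.toFinset.erase χ₀), (εX' χ : ℂ) * (χ : G → ℂ) g := by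
    intro g hg
    have h := hrel' _ (Set.mem_toFinset.1 hpY) g hg
    rw [← Finset.add_sum_erase _ _ hχ₀, hp1] at h
    rw [Finset.sum_insert hnot, Finset.sum_congr rfl (g := fun χ : IrrCharacter G => (εX χ : ℂ) * (χ : G → ℂ) g)
      fun χ hχ => by simp [εX', show χ ≠ principal G from fun e' => hnot (e' ▸ hχ)]]
    simp only [εX', if_true, hp1]
    push_cast at h ⊢
    linear_combination h
  refine ⟨insert (principal G) (Xs.toFinset.erase χ₀), {χ₀}, εX', -εX χ₀,
    Finset.mem_insert_self _ _, if_pos rfl, ?_, ?_, ?_, ?_, fun χ hχ => ?_, fun θ hθ => ?_,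
    fun θ hθ g hg => ?_, fun x hx hx1 => ?_, fun x hx hx1 => ?_⟩
  · simp [Finset.disjoint_singleton_right, hne]
  · rw [Finset.card_insert_of_notMem hnot, Finset.card_erase_of_mem hχ₀, hXc']; omega
  · rw [Finset.card_singleton, one_mul]; exact he
  · rcases hs with e' | e' <;> simp [e']
  · rcases Finset.mem_insert.1 hχ with rfl | hχ
    · refine ⟨Or.inl (if_pos rfl), ?_, fun x _ _ y _ _ => ?_⟩
      · simp [εX', hpd]
      · simp [εX', hp1]
    · simp only [εX', if_neg (show χ ≠ principal G from fun e' => hnot (e' ▸ hχ))]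
      exact hX χ (Set.mem_toFinset.1 (Finset.mem_of_mem_erase hχ))
  · rw [Finset.mem_singleton] at hθ
    subst hθ
    refine (hX _ (Set.mem_toFinset.1 hχ₀)).2.1.trans (Int.modEq_iff_dvd.2 ⟨-εX θ, ?_⟩)
    rw [he, Nat.cast_sub hp.one_lt.le]; push_cast; ring
  · rw [Finset.mem_singleton] at hθ
    subst hθ
    push_cast
    exact hr0 g hg
  · rw [Finset.sum_singleton, hX1 _ (Set.mem_toFinset.1 hχ₀) x hx hx1]; push_cast; ring
  · have h := (Finset.sum_union (Set.disjoint_toFinset.2 hdisj)).symm.trans (hnorm x hx hx1)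
    rw [hY1, Finset.sum_singleton, ← Finset.add_sum_erase _ _ hχ₀] at h
    rw [Finset.sum_insert hnot, Finset.sum_singleton, ← h]
    ring

end CfsgLib.Brauer43
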