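import Cfsg.Agent.Lib.Brauer43.Local
import Cfsg.Agent.S4503
import Cfsg.Agent.Lib.CharApps.ClassCount

/-!
# Either `n = 1` or the normalizer quotient has order two
-/

set_option autoImplicit false
set_option linter.style.haveILetI false
set_option linter.unusedSectionVars false

namespace CfsgLib.Brauer43

open Cfsg CfsgLib.Chars Finset MulAction
open scoped ComplexConjugate

universe u

variable {G : Type u} [Group G] [Finite G] {p : ℕ} [Fact p.Prime]
  {P : Sylow p G} {n e t a d : ℕ} {ε : ℤ} {Xp Xm Y O : Finset (IrrCharacter G)} {g : G}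

theorem faithful_of_simple (hs : IsSimpleGroup G) {χ : IrrCharacter G}
    (h : charDegree (χ : G → ℂ) ≠ 1) : ∀ x : G, (χ : G → ℂ) x = (χ : G → ℂ) 1 → x = 1 := by
  haveI := Fintype.ofFinite G
  rcases hs.eq_bot_or_eq_top_of_normal _ (CharApps.charKer_normal χ) with hK | hK
  · intro x hx
    exact Subgroup.mem_bot.1 (hK ▸ (CharApps.mem_charKer.2 hx))
  · exfalso
    have h1 := inner_irr_self χ
    rw [inner_def, Finset.sum_congr rfl (g := fun _ : G => ((charDegree (χ : G → ℂ) ^ 2 : ℕ) : ℂ))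
      fun x _ => by
        rw [CharApps.mem_charKer.1 (hK ▸ Subgroup.mem_top x), CharApps.conj_deg, CharApps.deg_eq]
        push_cast; ring,
      Finset.sum_const, Finset.card_univ, ← Nat.card_eq_fintype_card, nsmul_eq_mul,
      inv_mul_cancel_left₀ (card_ne_zero G)] at h1
    have h2 : charDegree (χ : G → ℂ) ^ 2 = 1 := by exact_mod_cast h1
    exact h (Nat.pow_left_injective two_ne_zero (h2.trans (one_pow 2).symm))

/-- Values at involutions of the normalizer. -/
theorem int_value_involution (D : Data P n e t a d ε Xp Xm Y O) {s : G} (hs : s * s = 1)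
    (hN : s ∈ Subgroup.normalizer ((P : Subgroup G) : Set G)) (hP : s ∉ (P : Subgroup G))
    (χ : IrrCharacter G) :
    ∃ z : ℤ, (χ : G → ℂ) s = (z : ℂ) ∧ z.natAbs ≤ mult (P : Subgroup G) χ := by
  classical
  have hsi : s⁻¹ = s := inv_eq_of_mul_eq_one_right hs
  have hconj : ∀ x ∈ (P : Subgroup G), s * x * s ∈ (P : Subgroup G) := fun x hx => by
    have := (Subgroup.mem_normalizer_iff.1 hN x).1 hx
    rwa [hsi] at this
  let K : Subgroup G :=
    { carrier := {x | x ∈ (P : Subgroup G) ∨ s * x ∈ (P : Subgroup G)}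
      one_mem' := Or.inl (one_mem _)
      mul_mem' := by
        rintro x y (hx | hx) (hy | hy)
        · exact Or.inl (mul_mem hx hy)
        · refine Or.inr ?_
          have := mul_mem (hconj x hx) hy
          rwa [show s * x * s * (s * y) = s * x * (s * s) * y by group, hs, mul_one, mul_assoc] at this
        · refine Or.inr ?_
          rw [← mul_assoc]; exact mul_mem hx hy
        · refine Or.inl ?_
          have := mul_mem (hconj _ hx) hy
          rwa [show s * (s * x) * s * (s * y) = (s * s) * x * (s * s) * y by group, hs, one_mul,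
            mul_one] at this
      inv_mem' := by
        rintro x (hx | hx)
        · exact Or.inl (inv_mem hx)
        · refine Or.inr ?_
          have := hconj _ (inv_mem hx)
          rwa [mul_inv_rev, hsi, mul_assoc, mul_assoc, hs, mul_one] at this }
  have hPK : (P : Subgroup G) ≤ K := fun x hx => Or.inl hx
  let f : ↥(P : Subgroup G) ⊕ ↥(P : Subgroup G) → K := Sum.elim (fun u => ⟨u, hPK u.2⟩)
    (fun u => ⟨s * u, Or.inr (by rw [← mul_assoc, hs, one_mul]; exact u.2)⟩)
  have hbij : Function.Bijective f := by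
    constructor
    · have hne : ∀ u v : ↥(P : Subgroup G), (u : G) ≠ s * v := fun u v h => hP (by
        have := mul_mem u.2 (inv_mem v.2)
        rwa [h, mul_inv_cancel_right] at this)
      rintro (u | u) (v | v) h <;> have h' := congrArg Subtype.val h
      · exact congrArg _ (Subtype.ext h')
      · exact absurd h' (hne u v)
      · exact absurd h'.symm (hne v u)
      · exact congrArg _ (Subtype.ext (mul_left_cancel h'))
    · rintro ⟨x, hx | hx⟩
      · exact ⟨Sum.inl ⟨x, hx⟩, rfl⟩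
      · exact ⟨Sum.inr ⟨_, hx⟩, Subtype.ext (by show s * (s * x) = x; rw [← mul_assoc, hs, one_mul])⟩
  have hcard : Nat.card K = 2 * p := by
    rw [← Nat.card_eq_of_bijective f hbij, Nat.card_sum, D.card_P, two_mul]
  have hsum := sum_eq_mult K χ
  haveI := Fintype.ofFinite K
  haveI := Fintype.ofFinite (P : Subgroup G)
  rw [finsum_eq_sum_of_fintype, ← hbij.sum_comp (fun x : K => (χ : G → ℂ) x), Fintype.sum_sum_type,
    hcard] at hsum
  simp only [f, Sum.elim_inl, Sum.elim_inr] at hsum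
  rw [← finsum_eq_sum_of_fintype, ← finsum_eq_sum_of_fintype, sum_eq_mult, D.card_P,
    D.apply_translate χ hN hP, ← mul_add] at hsum
  have h2 : (mult (P : Subgroup G) χ : ℂ) + (χ : G → ℂ) s = 2 * mult K χ := by
    refine mul_left_cancel₀ (Nat.cast_ne_zero.2 (Fact.out : p.Prime).ne_zero) (hsum.trans ?_)
    push_cast; ring
  refine ⟨2 * (mult K χ : ℤ) - mult (P : Subgroup G) χ, ?_, ?_⟩
  · push_cast; linear_combination h2
  · have := mult_mono hPK χ
    omega

theorem Local.zpow_ne_one (L : Local P n e Xm O g) {i : ℕ} (hi0 : 0 < i) (hi : i < e) :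
    g ^ i ≠ 1 := by
  rw [← L.order] at hi
  exact pow_ne_one_of_lt_orderOf hi0.ne' hi

theorem Local.norm_dvd (D : Data P n e t a d ε Xp Xm Y O) (L : Local P n e Xm O g) :
    n + 1 ∣ p * (n * p + 1) := by
  have h := Subgroup.card_subgroup_dvd_card (Subgroup.normalizer (Subgroup.zpowers g : Set G))
  rw [L.card_norm, D.card_G, show p * e * (n * p + 1) = e * (p * (n * p + 1)) by ring] at h
  exact Nat.dvd_of_mul_dvd_mul_left (by have := D.e_two; omega) h

theorem case_pos (D : Data P n e t a d ε Xp Xm Y O) (L : Local P n e Xm O g)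
    (hd : d = e) (he : e = 1 + a * (n + 1)) : n = 1 ∧ 2 * e + 1 = p := by
  haveI := D.simple
  have hp : p.Prime := Fact.out
  have he2 := D.e_two
  have hpe := D.p_eq
  have hn := D.n_pos
  obtain ⟨θ, hθ⟩ : Y.Nonempty := Finset.card_pos.1 (by rw [D.card_Y]; have := D.t_two; omega)
  have hdeg : charDegree (θ : G → ℂ) = e := by
    have h := D.deg_Y θ hθ
    rw [CharApps.deg_eq, Nat.cast_inj] at h
    exact h.trans hd
  have hdvd : p ∣ Nat.card G := D.card_P ▸ Subgroup.card_subgroup_dvd_card _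
  have h4503 := Cfsg.Agent.S4503.result p hp hdvd (not_sq_dvd (P := P) D.card_P) (fun H hH hc => by
    rcases D.simple.eq_bot_or_eq_top_of_normal H hH with rfl | rfl
    · rw [Subgroup.card_bot] at hc; exact hp.ne_one hc.symm
    · rw [Subgroup.card_top, D.card_G, mul_assoc] at hc
      have h1 : e * (n * p + 1) = 1 :=
        Nat.eq_of_mul_eq_mul_left hp.pos (hc.trans (mul_one p).symm)
      have := Nat.eq_one_of_mul_eq_one_right h1
      omega) (θ : G → ℂ) (isCharacter_of_irr θ.2) (faithful_of_simple D.simple (by omega))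
  rw [hdeg] at h4503
  have ht : t = 2 := by
    have h2 := D.t_two
    by_contra hne
    have := Nat.mul_le_mul_left e (show 3 ≤ t by omega)
    omega
  subst ht
  refine ⟨?_, by omega⟩
  have ha : 1 ≤ a := Nat.pos_of_ne_zero fun h0 => by rw [h0, zero_mul] at he; omega
  have hle : n + 1 ≤ e := by have := Nat.le_mul_of_pos_left (n + 1) ha; omega
  have hd1 : n + 1 ∣ n * p + 1 :=
    ((hp.coprime_iff_not_dvd.2 fun h => by
      have := Nat.le_of_dvd (Nat.succ_pos _) h; omega).symm).dvd_of_dvd_mul_left (Local.norm_dvd D L)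
  have hd2 : n + 1 ∣ p - 1 := by
    have h : n * p + 1 + (p - 1) = (n + 1) * p := by rw [Nat.succ_mul]; omega
    exact (Nat.dvd_add_right hd1).1 (h ▸ dvd_mul_right _ _)
  have hd3 : n + 1 ∣ 2 := by
    have h : p - 1 = 2 + 2 * a * (n + 1) := by
      have h1 : 2 * e = 2 + 2 * a * (n + 1) := by rw [he]; ring
      omega
    rw [h] at hd2
    exact (Nat.dvd_add_left (dvd_mul_left _ _)).1 hd2
  have := Nat.le_of_dvd two_pos hd3
  omega

open scoped Classical in
theorem case_neg (D : Data P n e t a d ε Xp Xm Y O) (L : Local P n e Xm O g) (hε : ε = -1) {m : ℕ}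
    (hnm : n + 1 = t * m) (hdt : d * t = n * p + 1) (hdem : d + e = m * p)
    (he : e = 1 + (a * t + 1) * m) :
    (n = 1 ∧ 2 * e + 1 = p) ∨ (e = 2 ∧ a = 0 ∧ n + 1 = t ∧ d + 2 = p) := by
  haveI := Fintype.ofFinite G
  haveI := irrFintype G
  have hp : p.Prime := Fact.out
  have he2 := D.e_two
  have ht2 := D.t_two
  have hpe := D.p_eq
  have hep := D.e_lt
  -- `m = 1`
  have hm : m = 1 := by
    have h := Local.norm_dvd D L
    rw [hnm, ← hdt, mul_comm t m, ← mul_assoc p] at h
    have h1 : m ∣ p * d := Nat.dvd_of_mul_dvd_mul_right (by omega) h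
    have h2 : m ∣ p * e := by
      refine (Nat.dvd_add_right h1).1 ?_
      rw [← mul_add, hdem]
      exact Dvd.dvd.mul_left (dvd_mul_right m p) p
    have h3 : Nat.Coprime m e := by
      rw [he, mul_comm _ m, Nat.coprime_add_mul_left_right]; exact Nat.coprime_one_right m
    rcases (Nat.dvd_prime hp).1 (h3.dvd_of_dvd_mul_right h2) with h4 | h4
    · exact h4
    · exfalso
      have := Nat.le_mul_of_pos_left m (show 0 < a * t + 1 by omega)
      omega
  subst hm
  rw [mul_one] at hnm he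
  rw [one_mul] at hdem
  rcases Nat.eq_zero_or_pos a with ha | ha
  · right
    rw [ha, zero_mul] at he
    exact ⟨by omega, ha, hnm, by omega⟩
  left
  have heven : Even e := by
    rw [he]
    obtain ⟨k, hk⟩ := D.t_even
    exact ⟨1 + a * k, by rw [hk]; ring⟩
  have he4 : 2 < e := by
    have := Nat.le_mul_of_pos_left t ha
    omega
  obtain ⟨k, hk⟩ := heven
  obtain ⟨s, hs⟩ : ∃ s, s = g ^ k := ⟨_, rfl⟩
  have hsD : s ∈ Subgroup.zpowers g := hs ▸ pow_mem (Subgroup.mem_zpowers g) k
  have hs1 : s ≠ 1 := hs ▸ L.zpow_ne_one (by omega) (by omega)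
  have hss : s * s = 1 := by rw [hs, ← pow_add, ← hk, ← L.order, pow_orderOf_eq_one]
  have hsN : s ∈ Subgroup.normalizer ((P : Subgroup G) : Set G) :=
    Subgroup.zpowers_le.2 L.mem_N hsD
  have hsP := L.notMem s hsD hs1
  have hg1 : g ≠ 1 := fun h => by
    have h' := L.order
    rw [h, orderOf_one] at h'; omega
  have hg2 : g * g ≠ 1 := by rw [← pow_two]; exact L.zpow_ne_one two_pos he4
  have hgD := Subgroup.mem_zpowers g
  have hgiD : g⁻¹ ∈ Subgroup.zpowers g := inv_mem hgD
  have hgi1 : g⁻¹ ≠ 1 := inv_ne_one.2 hg1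
  have hreg : ∀ h ∈ Subgroup.zpowers g, ¬ p ∣ orderOf h := fun h hh hdvd => by
    have h1 := Nat.le_of_dvd (by omega : 0 < e) (hdvd.trans (L.order ▸ Nat.card_zpowers g ▸
      Subgroup.orderOf_dvd_natCard _ hh))
    omega
  -- the centralizer of the involution
  have hnc : Subgroup.centralizer ({s} : Set G) =
      Subgroup.normalizer (Subgroup.zpowers g : Set G) := by
    refine le_antisymm (fun u hu => L.norm_of_conj u s hsD hs1 ?_) (fun u hu => ?_)
    · rw [Subgroup.mem_centralizer_singleton_iff] at hu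
      rw [hu, mul_inv_cancel_right]; exact hsD
    · rw [Subgroup.mem_centralizer_singleton_iff]
      obtain ⟨i, hi⟩ := Subgroup.mem_zpowers_iff.1
        ((Subgroup.mem_normalizer_iff.1 hu s).1 hsD)
      have hinv : g ^ i * g ^ i = 1 := by
        rw [hi, show u * s * u⁻¹ * (u * s * u⁻¹) = u * (s * s) * u⁻¹ by group, hss]; group
      have hi1 : g ^ i ≠ 1 := fun h => hs1 (conj_eq_one_iff.1 (hi ▸ h))
      have hdvd : (e : ℤ) ∣ i + i := by
        rw [← L.order, orderOf_dvd_iff_zpow_eq_one, zpow_add, hinv]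
      obtain ⟨c, hc⟩ := hdvd
      have hic : i = k * c := by rw [hk] at hc; push_cast at hc; linarith
      rcases Int.even_or_odd c with ⟨c', hc'⟩ | ⟨c', hc'⟩
      · exfalso; apply hi1
        rw [← orderOf_dvd_iff_zpow_eq_one, L.order]
        exact ⟨c', by rw [hic, hc', hk]; push_cast; ring⟩
      · have hgi : g ^ i = s := by
          rw [hic, hc', show (k : ℤ) * (2 * c' + 1) = ((e : ℕ) : ℤ) * c' + k by rw [hk]; push_cast; ring,
            zpow_add, zpow_mul, zpow_natCast g e, ← L.order, pow_orderOf_eq_one, one_zpow, one_mul,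
            zpow_natCast, hs]
        rw [hgi] at hi
        exact (eq_mul_inv_iff_mul_eq.1 hi).symm
  have hcs : Nat.card (Subgroup.centralizer ({s} : Set G)) = e * t := by
    rw [hnc, L.card_norm, hnm]
  -- values at `s`
  choose! zX hzX using fun χ (_ : χ ∈ Xp) => int_value_involution D hss hsN hsP χ
  have hkX : ∀ χ ∈ Xp, mult (P : Subgroup G) χ = t := fun χ hχ => eq_mult (by
    haveI := Fintype.ofFinite (P : Subgroup G)
    rw [finsum_eq_sum_of_fintype, ← Finset.add_sum_erase _ _ (Finset.mem_univ 1), Subgroup.coe_one,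
      D.deg_Xp χ hχ, Finset.sum_congr (s₁ := (univ : Finset (P : Subgroup G)).erase 1) rfl fun u hu => D.val_Xp χ hχ u u.2
        (fun e' => Finset.ne_of_mem_erase hu (Subtype.ext e')),
      Finset.sum_const, Finset.card_erase_of_mem (Finset.mem_univ _), Finset.card_univ,
      ← Nat.card_eq_fintype_card, D.card_P, nsmul_eq_mul, mul_one, Nat.cast_sub hp.one_lt.le, ← hnm]
    push_cast; ring)
  obtain ⟨θ₁, hθ₁, hk1⟩ : ∃ θ ∈ Y, mult (P : Subgroup G) θ ≤ 1 := by
    by_contra! h
    haveI := Fintype.ofFinite (P : Subgroup G)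
    have h1 : ∑ θ ∈ Y, (p : ℂ) * mult (P : Subgroup G) θ = ((p * t : ℕ) : ℂ) := by
      rw [Finset.sum_congr rfl fun θ _ => (D.card_P ▸ sum_eq_mult (P : Subgroup G) θ).symm]
      simp only [finsum_eq_sum_of_fintype]
      rw [Finset.sum_comm, ← Finset.add_sum_erase _ _ (Finset.mem_univ 1), Subgroup.coe_one,
        Finset.sum_congr rfl fun θ hθ => D.deg_Y θ hθ,
        Finset.sum_congr (s₁ := (univ : Finset (P : Subgroup G)).erase 1) rfl fun u hu =>
          D.sum_Y u u.2 (fun e' => Finset.ne_of_mem_erase hu (Subtype.ext e')),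
        Finset.sum_const, Finset.sum_const, Finset.card_erase_of_mem (Finset.mem_univ _),
        Finset.card_univ, ← Nat.card_eq_fintype_card, D.card_P, D.card_Y, hε, nsmul_eq_mul,
        nsmul_eq_mul, Nat.cast_sub hp.one_lt.le]
      have hpc : (p : ℂ) = e * t + 1 := by exact_mod_cast hpe
      have hdc : (d : ℂ) + e = p := by exact_mod_cast hdem
      push_cast
      linear_combination (t : ℂ) * hdc + hpc
    rw [← Finset.mul_sum, Nat.cast_mul, ← Nat.cast_sum] at h1
    have h2 : ∑ θ ∈ Y, mult (P : Subgroup G) θ = t := by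
      exact_mod_cast mul_left_cancel₀ (Nat.cast_ne_zero.2 hp.ne_zero) h1
    have h3 := Finset.card_nsmul_le_sum Y (fun θ => mult (P : Subgroup G) θ) 2 (fun θ hθ => h θ hθ)
    rw [D.card_Y, smul_eq_mul] at h3
    omega
  obtain ⟨w, hw, hw1⟩ := int_value_involution D hss hsN hsP θ₁
  have hsame : ∀ θ ∈ Y, ∀ h ∈ Subgroup.zpowers g, (θ : G → ℂ) h = (θ₁ : G → ℂ) h := fun θ hθ h hh => by
    have h1 := (D.rel θ hθ h (hreg h hh)).trans (D.rel θ₁ hθ₁ h (hreg h hh)).symm
    exact mul_left_cancel₀ (by rw [hε]; norm_num) h1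
  have hsum_eq : ∑ χ ∈ Xp, zX χ ^ 2 + (t : ℤ) * w ^ 2 = ((e : ℤ) - 1) * t := by
    have h := second_orthogonality s s
    rw [if_pos (IsConj.refl s), hcs, D.sum_split, principal_apply, map_one, one_mul,
      Finset.sum_congr (s₁ := Xp) rfl fun χ hχ => by
        rw [(hzX χ hχ).1, map_intCast, ← pow_two, ← Int.cast_pow],
      Finset.sum_congr (s₁ := Xm) rfl fun χ hχ => by rw [L.val_Xm χ hχ s hsD hs1, zero_mul],
      Finset.sum_congr (s₁ := Y) rfl fun θ hθ => by
        rw [hsame θ hθ s hsD, hw, map_intCast, ← pow_two, ← Int.cast_pow],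
      Finset.sum_congr (s₁ := O) rfl fun χ hχ => by
        rw [L.val_O χ hχ s hsD hs1, map_natCast, ← pow_two, ← Nat.cast_pow],
      Finset.sum_const_zero, Finset.sum_const, D.card_Y, ← Nat.cast_sum, ← Int.cast_sum,
      L.sum_O, nsmul_eq_mul, add_zero] at h
    have h' : ((∑ χ ∈ Xp, zX χ ^ 2 + (t : ℤ) * w ^ 2 : ℤ) : ℂ) = ((((e : ℤ) - 1) * t : ℤ) : ℂ) := by
      have hnc' : (n : ℂ) + 1 = t := by exact_mod_cast hnm
      push_cast at h ⊢
      linear_combination h - hnc'
    exact_mod_cast h'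
  have hX2 : ∀ χ ∈ Xp, zX χ ^ 2 ≤ (t : ℤ) ^ 2 := fun χ hχ => by
    rw [← Int.natAbs_sq]
    have := (hzX χ hχ).2
    rw [hkX χ hχ] at this
    exact pow_le_pow_left₀ (by positivity) (by exact_mod_cast this) 2
  have hw2 : w ^ 2 ≤ 1 := by
    rw [← Int.natAbs_sq]
    have : (w.natAbs : ℤ) ≤ 1 := by exact_mod_cast hw1.trans hk1
    exact pow_le_one₀ (by positivity) this
  have hbound : ∑ χ ∈ Xp, zX χ ^ 2 ≤ (a : ℤ) * t ^ 2 := by
    have := Finset.sum_le_card_nsmul Xp (fun χ => zX χ ^ 2) _ hX2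
    rwa [D.card_Xp, nsmul_eq_mul] at this
  have hez : (e : ℤ) = 2 + a * t := by rw [he]; push_cast; ring
  have ht0 : (0 : ℤ) < t := by exact_mod_cast (by omega : 0 < t)
  have hwe : w ^ 2 = 1 := by
    refine le_antisymm hw2 (le_of_mul_le_mul_left ?_ ht0)
    rw [hez] at hsum_eq
    nlinarith
  have hXe : ∀ χ ∈ Xp, zX χ ^ 2 = (t : ℤ) ^ 2 := by
    refine (Finset.sum_eq_sum_iff_of_le hX2).1 ?_
    rw [hwe, hez] at hsum_eq
    rw [Finset.sum_const, D.card_Xp, nsmul_eq_mul]
    linear_combination hsum_eq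
  -- pairs of conjugates of `s` with product `g`
  have hrelg := D.rel θ₁ hθ₁ g⁻¹ (hreg _ hgiD)
  rw [Finset.sum_congr (s₁ := Xm) rfl fun χ hχ => L.val_Xm χ hχ _ hgiD hgi1, Finset.sum_const_zero,
    sub_zero, hε] at hrelg
  have hcount := CharApps.card_conj_mul_conj s s g
  have hd0 : (d : ℂ) ≠ 0 := by
    have : d ≠ 0 := fun h => by rw [h, zero_mul] at hdt; omega
    exact_mod_cast this
  have hp0 : (p : ℂ) ≠ 0 := Nat.cast_ne_zero.2 hp.ne_zero
  have hn0 : ((n * p + 1 : ℕ) : ℂ) ≠ 0 := Nat.cast_ne_zero.2 (Nat.succ_ne_zero _)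
  have hOterm : ∀ χ ∈ O, (χ : G → ℂ) s * (χ : G → ℂ) s * (χ : G → ℂ) g⁻¹ / (χ : G → ℂ) 1 =
      ((mult (P : Subgroup G) χ ^ 2 : ℕ) : ℂ) / p := fun χ hχ => by
    have hk0 : ((mult (P : Subgroup G) χ : ℕ) : ℂ) ≠ 0 := fun h0 => CharApps.deg_ne_zero χ (by
      rw [L.deg_O χ hχ]; push_cast; rw [h0, mul_zero])
    rw [L.val_O χ hχ s hsD hs1, L.val_O χ hχ _ hgiD hgi1, L.deg_O χ hχ]
    push_cast
    field_simp
  rw [D.sum_split, principal_apply, principal_apply, principal_apply, one_mul, one_mul, div_one,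
    Finset.sum_congr (s₁ := Xp)
      (g := fun χ : IrrCharacter G => ((t : ℂ) ^ 2 / ((n * p + 1 : ℕ) : ℂ)) * (χ : G → ℂ) g⁻¹)
      rfl fun χ hχ => by
        rw [(hzX χ hχ).1, D.deg_Xp χ hχ, ← Int.cast_mul, ← pow_two, hXe χ hχ, Int.cast_pow,
          Int.cast_natCast]
        ring,
    Finset.sum_congr (s₁ := Xm) rfl fun χ hχ => by
      rw [L.val_Xm χ hχ s hsD hs1, zero_mul, zero_mul, zero_div],
    Finset.sum_congr (s₁ := Y) (g := fun _ : IrrCharacter G => (θ₁ : G → ℂ) g⁻¹ / (d : ℂ))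
      rfl fun θ hθ => by
        rw [hsame θ hθ s hsD, hsame θ hθ _ hgiD, hw, ← Int.cast_mul, ← pow_two, hwe, Int.cast_one,
          one_mul, D.deg_Y θ hθ],
    Finset.sum_congr (s₁ := O) rfl hOterm,
    Finset.sum_const_zero, add_zero, Finset.sum_const, D.card_Y, ← Finset.mul_sum, ← Finset.sum_div,
    ← Nat.cast_sum, L.sum_O, nsmul_eq_mul, D.card_G] at hcount
  have hN : Nat.card {ab : G × G // ab.1 * s * ab.1⁻¹ * (ab.2 * s * ab.2⁻¹) = g} =
      (e * t) * (e * t) * (e * (t - 1)) := by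
    refine Nat.cast_injective (R := ℂ) (hcount.trans ?_)
    have hdt' : (d : ℂ) * t = n * p + 1 := by exact_mod_cast hdt
    have hpc : (p : ℂ) = e * t + 1 := by exact_mod_cast hpe
    have hdc : (d : ℂ) + e = p := by exact_mod_cast hdem
    have hnc' : (n : ℂ) + 1 = t := by exact_mod_cast hnm
    have hX : ∑ χ ∈ Xp, (χ : G → ℂ) g⁻¹ = -(θ₁ : G → ℂ) g⁻¹ - 1 := by
      push_cast at hrelg; linear_combination -hrelg
    rw [hX]
    push_cast [Nat.cast_sub (show 1 ≤ t by omega)]
    have hne' : (n : ℂ) * p + 1 ≠ 0 := by exact_mod_cast Nat.succ_ne_zero (n * p)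
    rw [← hdt'] at hne' ⊢
    field_simp
    rw [show (n : ℂ) = t - 1 by linear_combination hnc',
      show (d : ℂ) = p - e by linear_combination hdc, hpc]
    ring
  obtain ⟨U, hU⟩ : ∃ U, U = (univ : Finset G).filter (fun u =>
      u ∈ Subgroup.centralizer ({s} : Set G) ∧ u ∉ Subgroup.zpowers g ∧ u * u = 1 ∧ u * g * u = g⁻¹) :=
    ⟨_, rfl⟩
  obtain ⟨S, hS⟩ : ∃ S, S = (univ : Finset (G × G)).filter
      (fun ab => ab.1 * s * ab.1⁻¹ * (ab.2 * s * ab.2⁻¹) = g) := ⟨_, rfl⟩
  have hmaps : ∀ ab ∈ S, ab.1 * s * ab.1⁻¹ ∈ U := by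
    intro ab hab
    rw [hS, Finset.mem_filter] at hab
    have hsq : ∀ b : G, b * s * b⁻¹ * (b * s * b⁻¹) = 1 := fun b => by
      rw [show b * s * b⁻¹ * (b * s * b⁻¹) = b * (s * s) * b⁻¹ by group, hss]; group
    have huu := hsq ab.1
    have hvv := hsq ab.2
    generalize ab.1 * s * ab.1⁻¹ = u at huu hab
    generalize ab.2 * s * ab.2⁻¹ = v at hvv hab
    have hinv : u * g * u = g⁻¹ := by
      rw [← hab.2, mul_inv_rev, inv_eq_of_mul_eq_one_right huu, inv_eq_of_mul_eq_one_right hvv,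
        ← mul_assoc u u v, huu, one_mul]
    have hui : u⁻¹ = u := inv_eq_of_mul_eq_one_right huu
    have hnot : u ∉ Subgroup.zpowers g := by
      intro hu
      obtain ⟨i, rfl⟩ := Subgroup.mem_zpowers_iff.1 hu
      rw [(Commute.zpow_self g i).eq, mul_assoc, huu, mul_one] at hinv
      exact hg2 (mul_eq_one_iff_eq_inv.2 hinv)
    have hmem := L.norm_of_conj u g hgD hg1 (by rw [hui, hinv]; exact hgiD)
    rw [← hnc] at hmem
    rw [hU]
    exact Finset.mem_filter.2 ⟨Finset.mem_univ _, hmem, hnot, huu, hinv⟩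
  have hfib : ∀ u : G, ((univ : Finset G).filter (fun b => b * s * b⁻¹ = u)).card ≤ e * t := by
    intro u
    rw [← Fintype.card_subtype, ← Nat.card_eq_fintype_card]
    by_cases hc : IsConj s u
    · rw [CharApps.card_conj_fiber s hc, hcs]
    · haveI : IsEmpty {b : G // b * s * b⁻¹ = u} := ⟨fun b => hc (isConj_iff.mpr ⟨b.1, b.2⟩)⟩
      rw [Nat.card_of_isEmpty]; exact Nat.zero_le _
  have hle : S.card ≤ (e * t) * (e * t) * U.card := by
    refine Finset.card_le_mul_card_image_of_maps_to hmaps _ fun u _ => ?_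
    refine (Finset.card_le_card (t := ((univ : Finset G).filter (fun b => b * s * b⁻¹ = u)) ×ˢ
      ((univ : Finset G).filter (fun b => b * s * b⁻¹ = u⁻¹ * g))) fun ab hab => ?_).trans ?_
    · rw [hS, Finset.mem_filter, Finset.mem_filter] at hab
      simp only [Finset.mem_product, Finset.mem_filter, Finset.mem_univ, true_and]
      exact ⟨hab.2, by rw [← hab.2, ← hab.1.2]; group⟩
    · rw [Finset.card_product]; exact Nat.mul_le_mul (hfib _) (hfib _)
  rw [hS, ← Fintype.card_subtype, ← Nat.card_eq_fintype_card, hN] at hle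
  have hUge : e * (t - 1) ≤ U.card := Nat.le_of_mul_le_mul_left hle (by positivity)
  obtain ⟨C, hC⟩ : ∃ C, C = (univ : Finset G).filter (fun u =>
      u ∈ Subgroup.centralizer ({s} : Set G) ∧ u ∉ Subgroup.zpowers g) := ⟨_, rfl⟩
  have hUC : U ⊆ C := fun u hu => by
    rw [hU, Finset.mem_filter] at hu
    rw [hC, Finset.mem_filter]; exact ⟨hu.1, hu.2.1, hu.2.2.1⟩
  have hCcard : C.card = e * (t - 1) := by
    have hsub : (univ : Finset G).filter (· ∈ Subgroup.zpowers g) ⊆
        (univ : Finset G).filter (· ∈ Subgroup.centralizer ({s} : Set G)) := fun u hu => by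
      rw [Finset.mem_filter] at hu ⊢
      exact ⟨hu.1, hnc ▸ Subgroup.le_normalizer hu.2⟩
    have hC' : C = (univ : Finset G).filter (· ∈ Subgroup.centralizer ({s} : Set G)) \
        (univ : Finset G).filter (· ∈ Subgroup.zpowers g) := by
      rw [hC]; ext u; simp
    have c1 : ∀ K : Subgroup G, ((univ : Finset G).filter (· ∈ K)).card = Nat.card K := fun K => by
      rw [← Fintype.card_subtype, ← Nat.card_eq_fintype_card]
    rw [hC', Finset.card_sdiff_of_subset hsub, c1, c1, hcs, Nat.card_zpowers, L.order, Nat.mul_sub,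
      mul_one]
  have hUeq := Finset.eq_of_subset_of_card_le hUC (by omega)
  have hinvall : ∀ u ∈ Subgroup.centralizer ({s} : Set G), u ∉ Subgroup.zpowers g →
      u * u = 1 ∧ u * g * u = g⁻¹ := fun u hu hu' => by
    have h : u ∈ U := by rw [hUeq, hC]; exact Finset.mem_filter.2 ⟨Finset.mem_univ _, hu, hu'⟩
    rw [hU, Finset.mem_filter] at h
    exact ⟨h.2.2.2.1, h.2.2.2.2⟩
  have ht : t = 2 := by
    by_contra hne
    have hlt : e + e < e * t := by
      have := Nat.mul_le_mul_left e (show 3 ≤ t by omega)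
      omega
    obtain ⟨u, hu⟩ := Finset.card_pos.1 (show 0 < C.card by
      rw [hCcard]; exact Nat.mul_pos (by omega) (by omega))
    rw [hC, Finset.mem_filter] at hu
    obtain ⟨huu, hug⟩ := hinvall u hu.2.1 hu.2.2
    obtain ⟨v, hv1, hv2, hv3⟩ : ∃ v, v ∈ Subgroup.centralizer ({s} : Set G) ∧
        v ∉ Subgroup.zpowers g ∧ u * v ∉ Subgroup.zpowers g := by
      by_contra! hall
      have hle : Nat.card (Subgroup.centralizer ({s} : Set G)) ≤
          Nat.card (Subgroup.zpowers g ⊕ Subgroup.zpowers g) := by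
        refine Nat.card_le_card_of_injective (fun v =>
          if h : (v : G) ∈ Subgroup.zpowers g then Sum.inl ⟨v, h⟩
          else Sum.inr ⟨u * v, hall v v.2 h⟩) ?_
        intro v w hvw
        by_cases h1 : (v : G) ∈ Subgroup.zpowers g <;> by_cases h2 : (w : G) ∈ Subgroup.zpowers g <;>
          simp [h1, h2] at hvw
        · exact hvw
        · exact hvw
      rw [hcs, Nat.card_sum, Nat.card_zpowers, L.order] at hle
      omega
    obtain ⟨hvv, hvg⟩ := hinvall v hv1 hv2
    obtain ⟨-, huvg⟩ := hinvall (u * v) (mul_mem hu.2.1 hv1) hv3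
    obtain ⟨hw', -⟩ := hinvall (u * v) (mul_mem hu.2.1 hv1) hv3
    have h1 : u * (v * g * v) * u = g := by
      have h3 := congrArg (·⁻¹) hug
      simp only [mul_inv_rev, inv_eq_of_mul_eq_one_right huu, inv_inv] at h3
      rw [hvg, mul_assoc]; exact h3
    have h2 : u * v = v * u := by
      have h3 := inv_eq_of_mul_eq_one_right hw'
      rwa [mul_inv_rev, inv_eq_of_mul_eq_one_right huu, inv_eq_of_mul_eq_one_right hvv, eq_comm] at h3
    rw [show u * (v * g * v) * u = u * v * g * (v * u) by group, ← h2, huvg] at h1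
    exact hg2 (mul_eq_one_iff_eq_inv.2 h1.symm)
  subst ht
  exact ⟨by omega, by omega⟩

end CfsgLib.Brauer43
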