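import Cfsg.Agent.Lib.Brauer43.Block
import Cfsg.Agent.Lib.Brauer43.Avg
import Cfsg.Agent.Lib.BlockOrth.SelfCentralFacts
import Cfsg.Agent.Lib.Blocks.DefectOneDet

/-!
# Degrees in the principal block of a group with `n` not exceptional
-/

set_option autoImplicit false
set_option linter.style.haveILetI false
set_option linter.unusedSectionVars false

namespace CfsgLib.Brauer43

open Cfsg CfsgLib.Chars Finset
open scoped ComplexConjugate

universe u

variable {G : Type u} [Group G] [Finite G] {p : ℕ} [Fact p.Prime]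

/-- All that the degree computation gives. -/
structure Data (P : Sylow p G) (n e t a d : ℕ) (ε : ℤ)
    (Xp Xm Y O : Finset (IrrCharacter G)) : Prop where
  p_odd : p ≠ 2
  n_pos : 1 ≤ n
  e_two : 2 ≤ e
  t_two : 2 ≤ t
  t_even : Even t
  et : e * t = p - 1
  card_P : Nat.card (P : Subgroup G) = p
  card_sylow : Nat.card (Sylow p G) = 1 + n * p
  cent : ∀ x ∈ (P : Subgroup G), x ≠ 1 → Subgroup.centralizer ({x} : Set G) = (P : Subgroup G)
  card_N : Nat.card (Subgroup.normalizer ((P : Subgroup G) : Set G)) = p * e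
  card_G : Nat.card G = p * e * (n * p + 1)
  simple : IsSimpleGroup G
  e_split : Xm.card + a + 1 = e
  card_Xp : Xp.card = a
  card_Y : Y.card = t
  sum_split : ∀ (f : IrrCharacter G → ℂ) [Fintype (IrrCharacter G)],
    ∑ χ, f χ = f (principal G) + ∑ χ ∈ Xp, f χ + ∑ χ ∈ Xm, f χ + ∑ χ ∈ Y, f χ + ∑ χ ∈ O, f χ
  deg_Xp : ∀ χ ∈ Xp, (χ : G → ℂ) 1 = ((n * p + 1 : ℕ) : ℂ)
  deg_Xm : ∀ χ ∈ Xm, (χ : G → ℂ) 1 = ((p - 1 : ℕ) : ℂ)
  deg_Y : ∀ χ ∈ Y, (χ : G → ℂ) 1 = (d : ℂ)
  val_Xp : ∀ χ ∈ Xp, ∀ x ∈ (P : Subgroup G), x ≠ 1 → (χ : G → ℂ) x = 1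
  val_Xm : ∀ χ ∈ Xm, ∀ x ∈ (P : Subgroup G), x ≠ 1 → (χ : G → ℂ) x = -1
  val_O : ∀ χ ∈ O, ∀ x ∈ (P : Subgroup G), x ≠ 1 → (χ : G → ℂ) x = 0
  sum_Y : ∀ x ∈ (P : Subgroup G), x ≠ 1 → ∑ θ ∈ Y, (θ : G → ℂ) x = -(ε : ℂ)
  rel : ∀ θ ∈ Y, ∀ g : G, ¬ p ∣ orderOf g → (ε : ℂ) * (θ : G → ℂ) g =
    1 + ∑ χ ∈ Xp, (χ : G → ℂ) g - ∑ χ ∈ Xm, (χ : G → ℂ) g
  cases : (ε = 1 ∧ d = e ∧ e = 1 + a * (n + 1)) ∨
    (ε = -1 ∧ ∃ m : ℕ, n + 1 = t * m ∧ d * t = n * p + 1 ∧ d + e = m * p ∧ e = 1 + (a * t + 1) * m)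

theorem eq_principal_of_degree_one (hperf : commutator G = ⊤) {χ : IrrCharacter G}
    (h : charDegree (χ : G → ℂ) = 1) : χ = principal G := by
  obtain ⟨lam, hlam⟩ := exists_hom_of_degree_one (isCharacter_of_irr χ.2)
    (by rw [CharApps.deg_eq, h, Nat.cast_one])
  refine Subtype.ext (funext fun g => ?_)
  have hg : g ∈ lam.ker := Abelianization.commutator_subset_ker lam (hperf ▸ Subgroup.mem_top g)
  rw [hlam, principal_apply]
  show ((lam g : ℂˣ) : ℂ) = 1
  rw [MonoidHom.mem_ker.1 hg, Units.val_one]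

theorem mod_eq_of_modEq {z k : ℕ} (h : (z : ℤ) ≡ (k : ℤ) [ZMOD p]) (hk : k < p) : z % p = k :=
  Eq.trans (Int.natCast_modEq_iff.1 h : z % p = k % p) (Nat.mod_eq_of_lt hk)

theorem mod_cofactor {z c r : ℕ} {M : ℕ} (hM : z * c = M) (hz : z % p = r) :
    (r * c) % p = M % p := by
  rw [← hM, ← hz, Nat.mod_mul_mod]

set_option maxHeartbeats 1600000 in
open scoped Classical in
theorem exists_data {P : Sylow p G} {n : ℕ} (hS : Setting P n) :
    ∃ (e t a d : ℕ) (ε : ℤ) (Xp Xm Y O : Finset (IrrCharacter G)),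
      Data P n e t a d ε Xp Xm Y O := by
  haveI := Fintype.ofFinite G
  haveI := irrFintype G
  have hp : p.Prime := Fact.out
  have hn := one_le_n hS
  have hP := hS.card_P
  have hperf := hS.perfect
  have hp2 := hp.two_le
  have he2 : 2 ≤ autIndex P := two_le_autIndex hperf hP
  have hed := autIndex_dvd (P := P) hP
  obtain ⟨X, Y, εX, ε, hpX, hε1, hXY, hXc, hYc, hε, hX, hY, hrel, hsumY, hnorm⟩ :=
    exists_block_data (P := P) hperf hP
  have hidx := index_centralizer (P := P) hS.card_sylow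
  obtain ⟨e, he⟩ : ∃ e, e = autIndex P := ⟨_, rfl⟩
  rw [← he] at he2 hed hXc hYc hidx hY
  obtain ⟨t, ht⟩ : ∃ t, t = Y.card := ⟨_, rfl⟩
  rw [← ht] at hYc
  have hep : e < p := by have := Nat.le_of_dvd (by omega) hed; omega
  have ht1 : 1 ≤ t := Nat.pos_of_ne_zero fun h => by rw [h, zero_mul] at hYc; omega
  have h1reg : ¬ p ∣ orderOf (1 : G) := by simp [hp.ne_one]
  haveI : Nontrivial (P : Subgroup G) :=
    Finite.one_lt_card_iff_nontrivial.1 (hp.one_lt.trans_eq hP.symm)
  obtain ⟨⟨x, hx⟩, hx1'⟩ := exists_ne (1 : (P : Subgroup G))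
  have hx1 : x ≠ 1 := fun h => hx1' (Subtype.ext h)
  have hcx : (Subgroup.centralizer ({x} : Set G)).index = e * (n * p + 1) := by
    rw [centralizer_singleton_eq hP hx hx1, hidx]
  have hXval : ∀ χ ∈ X, ∀ z ∈ (P : Subgroup G), z ≠ 1 → (χ : G → ℂ) z = (εX χ : ℂ) :=
    fun χ hχ z hz hz1 => by
      have h := (hX χ hχ).2.2 z hz hz1 1 (one_mem _) h1reg
      rwa [mul_one] at h
  obtain ⟨θ₀, hθ₀⟩ : Y.Nonempty := Finset.card_pos.1 (by omega)
  obtain ⟨d, hd⟩ : ∃ d, d = charDegree (θ₀ : G → ℂ) := ⟨_, rfl⟩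
  have hd0 : d ≠ 0 := hd ▸ (CharApps.deg_pos θ₀).ne'
  have hεε : (ε : ℂ) * ε = 1 := by rcases hε with e' | e' <;> rw [e'] <;> norm_num
  have hdY : ∀ θ ∈ Y, charDegree (θ : G → ℂ) = d := fun θ hθ => by
    have h := (hrel θ hθ 1 h1reg).trans (hrel θ₀ hθ₀ 1 h1reg).symm
    have h' := mul_left_cancel₀ (left_ne_zero_of_mul_eq_one hεε) h
    rw [CharApps.deg_eq, CharApps.deg_eq, Nat.cast_inj] at h'
    rw [h', hd]
  have hdvdX : ∀ χ ∈ X, charDegree (χ : G → ℂ) ∣ e * (n * p + 1) := fun χ hχ => by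
    have h := degree_dvd_of_int {χ} id (x := x) (c := εX χ)
      (fun i hi => by rw [Finset.mem_singleton.1 hi]; rfl) (CharApps.deg_pos χ).ne'
      (by rw [Finset.sum_singleton]; exact hXval χ hχ x hx hx1)
    rcases (hX χ hχ).1 with e' | e' <;> simpa [hcx, e'] using h
  have hdvdY : d ∣ e * (n * p + 1) := by
    have h := degree_dvd_of_int Y id (x := x) (c := -ε) (fun i hi => hdY i hi) hd0
      (by push_cast; exact hsumY x hx hx1)
    rcases hε with e' | e' <;> simpa [hcx, e'] using h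
  have hMdvd : ∀ z, z ∣ e * (n * p + 1) → z ∣ (p - 1) * (n * p + 1) := fun z h =>
    h.trans (Nat.mul_dvd_mul_right hed _)
  have hMmod : (n * p + 1) % p = 1 := by
    rw [Nat.add_mod, Nat.mul_mod_left, zero_add, Nat.mod_mod, Nat.mod_eq_of_lt hp.one_lt]
  have hemod : (e * (n * p + 1)) % p = e := by
    rw [Nat.mul_mod, hMmod, mul_one, Nat.mod_mod, Nat.mod_eq_of_lt hep]
  have hNbig : p + 1 ≤ n * p + 1 := by have := Nat.le_mul_of_pos_left p hn; omega
  -- cofactors
  have hneg : ∀ z c : ℕ, z % p = p - 1 → (z * c) % p = p - 1 → c % p = 1 := by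
    intro z c hz hzc
    have h1 : ((z : ℕ) : ZMod p) = -1 := by
      rw [← ZMod.natCast_mod, hz, Nat.cast_sub hp.one_lt.le, ZMod.natCast_self, Nat.cast_one, zero_sub]
    have h2 : ((z * c : ℕ) : ZMod p) = -1 := by
      rw [← ZMod.natCast_mod, hzc, Nat.cast_sub hp.one_lt.le, ZMod.natCast_self, Nat.cast_one, zero_sub]
    rw [Nat.cast_mul, h1, neg_one_mul, neg_inj] at h2
    have h3 := congrArg ZMod.val h2
    rwa [ZMod.val_natCast, ZMod.val_one] at h3
  -- the positive characters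
  have hpos : ∀ χ ∈ X, χ ≠ principal G → εX χ = 1 → charDegree (χ : G → ℂ) = n * p + 1 := by
    intro χ hχ hne hs
    have hz1 : charDegree (χ : G → ℂ) % p = 1 :=
      mod_eq_of_modEq (k := 1) (by simpa [hs] using (hX χ hχ).2.1) hp.one_lt
    have hge : n * p + 1 ≤ charDegree (χ : G → ℂ) :=
      (hS.noDiv _ (hMdvd _ (hdvdX χ hχ)) hz1).resolve_left fun h =>
        hne (eq_principal_of_degree_one hperf h)
    obtain ⟨c, hc⟩ := hdvdX χ hχ
    have hce : c % p = e := by
      have := mod_cofactor hc.symm hz1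
      rwa [one_mul, hemod] at this
    have hec : e ≤ c := hce ▸ Nat.mod_le c p
    refine le_antisymm ?_ hge
    by_contra! hlt
    have h2 := Nat.mul_lt_mul_of_lt_of_le hlt hec (by omega)
    rw [← hc, mul_comm] at h2
    exact lt_irrefl _ h2
  -- the negative characters
  have hMm : ((p - 1) * (n * p + 1)) % p = p - 1 := by
    rw [Nat.mul_mod, hMmod, mul_one, Nat.mod_mod, Nat.mod_eq_of_lt (by omega)]
  have hnegmod : ∀ χ ∈ X, εX χ = -1 → charDegree (χ : G → ℂ) % p = p - 1 := by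
    intro χ hχ hs
    refine mod_eq_of_modEq (k := p - 1) ((hX χ hχ).2.1.trans (Int.modEq_iff_dvd.2 ⟨1, ?_⟩)) (by omega)
    rw [hs, Nat.cast_sub hp.one_lt.le]; push_cast; ring
  have hneg0 : ∀ χ ∈ X, εX χ = -1 → charDegree (χ : G → ℂ) = p - 1 ∨
      (charDegree (χ : G → ℂ) = (p - 1) * (n * p + 1) ∧ e = p - 1) := by
    intro χ hχ hs
    have hz1 := hnegmod χ hχ hs
    obtain ⟨D, hD⟩ := hMdvd _ (hdvdX χ hχ)
    have hD1 : D % p = 1 := hneg _ _ hz1 (hD ▸ hMm)
    rcases hS.noDiv D (Dvd.intro_left _ hD.symm) hD1 with h | h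
    · right
      rw [h, mul_one] at hD
      refine ⟨hD.symm, ?_⟩
      have h2 := Nat.le_of_dvd (Nat.mul_pos (by omega) (by omega)) (hdvdX χ hχ)
      rw [← hD] at h2
      have := Nat.le_of_mul_le_mul_right h2 (Nat.succ_pos _)
      omega
    · left
      have h2 : charDegree (χ : G → ℂ) ≤ p - 1 := by
        by_contra! hlt
        exact lt_irrefl _ (hD.trans_gt (Nat.mul_lt_mul_of_lt_of_le hlt h ((Nat.succ_pos _).trans_le h)))
      have := Nat.mod_le (charDegree (χ : G → ℂ)) p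
      omega
  obtain ⟨Xp, hXp⟩ : ∃ s, s = (X.erase (principal G)).filter (fun χ => εX χ = 1) := ⟨_, rfl⟩
  obtain ⟨Xm, hXm⟩ : ∃ s, s = (X.erase (principal G)).filter (fun χ => ¬ εX χ = 1) := ⟨_, rfl⟩
  have hmp : ∀ χ ∈ Xp, χ ∈ X ∧ χ ≠ principal G ∧ εX χ = 1 := fun χ hχ => by
    rw [hXp, Finset.mem_filter, Finset.mem_erase] at hχ; exact ⟨hχ.1.2, hχ.1.1, hχ.2⟩
  have hmm : ∀ χ ∈ Xm, χ ∈ X ∧ εX χ = -1 := fun χ hχ => by
    rw [hXm, Finset.mem_filter, Finset.mem_erase] at hχ
    exact ⟨hχ.1.2, (hX χ hχ.1.2).1.resolve_left hχ.2⟩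
  have hcount : Xm.card + Xp.card + 1 = e := by
    rw [hXp, hXm, add_comm (Finset.card _), Finset.card_filter_add_card_filter_not,
      Finset.card_erase_of_mem hpX, hXc]
    omega
  have hXsum : ∀ f : IrrCharacter G → ℂ,
      ∑ χ ∈ X, f χ = f (principal G) + ∑ χ ∈ Xp, f χ + ∑ χ ∈ Xm, f χ := fun f => by
    rw [hXp, hXm, add_assoc, Finset.sum_filter_add_sum_filter_not, Finset.add_sum_erase _ _ hpX]
  have hrel2 : ∀ θ ∈ Y, ∀ g : G, ¬ p ∣ orderOf g → (ε : ℂ) * (θ : G → ℂ) g =
      1 + ∑ χ ∈ Xp, (χ : G → ℂ) g - ∑ χ ∈ Xm, (χ : G → ℂ) g := fun θ hθ g hg => by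
    rw [hrel θ hθ g hg, hXsum, hε1, principal_apply, Int.cast_one, one_mul, sub_eq_add_neg,
      ← Finset.sum_neg_distrib]
    congr 1
    · congr 1
      exact Finset.sum_congr rfl fun χ hχ => by rw [(hmp χ hχ).2.2, Int.cast_one, one_mul]
    · exact Finset.sum_congr rfl fun χ hχ => by rw [(hmm χ hχ).2]; simp
  have hdeg : (ε : ℤ) * d = 1 + (Xp.card : ℤ) * (n * p + 1 : ℕ) -
      ((∑ χ ∈ Xm, charDegree (χ : G → ℂ) : ℕ) : ℤ) := by
    have h := hrel2 θ₀ hθ₀ 1 h1reg
    simp only [CharApps.deg_eq, ← hd] at h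
    rw [Finset.sum_congr rfl fun χ hχ => by
      rw [hpos χ (hmp χ hχ).1 (hmp χ hχ).2.1 (hmp χ hχ).2.2], Finset.sum_const, nsmul_eq_mul,
      ← Nat.cast_sum] at h
    have h' : ((ε * d : ℤ) : ℂ) = ((1 + (Xp.card : ℤ) * (n * p + 1 : ℕ) -
        ((∑ χ ∈ Xm, charDegree (χ : G → ℂ) : ℕ) : ℤ) : ℤ) : ℂ) := by push_cast at h ⊢; exact h
    exact_mod_cast h'
  obtain ⟨c, hc⟩ := hdvdY
  have hdmodn : ε = -1 → (d + e) % p = 0 := by
    intro h
    have := hY θ₀ hθ₀
    rw [h, ← hd] at this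
    refine Nat.mod_eq_zero_of_dvd ?_
    refine Int.natCast_dvd_natCast.1 ?_
    convert this.symm.dvd using 1
    push_cast; ring
  -- no character of degree `(p - 1)(np + 1)`
  have hdegm : ∀ χ ∈ Xm, charDegree (χ : G → ℂ) = p - 1 := by
    intro χ hχ
    refine (hneg0 χ (hmm χ hχ).1 (hmm χ hχ).2).resolve_right fun ⟨hbig, hee⟩ => ?_
    have h1 := Finset.single_le_sum (f := fun χ : IrrCharacter G => charDegree (χ : G → ℂ))
      (fun _ _ => Nat.zero_le _) hχ
    simp only [hbig] at h1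
    have hmem : 1 ≤ Xm.card := Finset.card_pos.2 ⟨χ, hχ⟩
    have h2 : (Xp.card + 2) * (n * p + 1) ≤ (p - 1) * (n * p + 1) :=
      Nat.mul_le_mul_right _ (by omega)
    rw [Nat.add_mul] at h2
    obtain rfl : ε = -1 := by
      rcases hε with e' | e'
      · exfalso
        subst e'
        push_cast at hdeg
        have h3 : ((n : ℤ) * p + 1) * (Xp.card + 2) ≤ (∑ χ ∈ Xm, charDegree (χ : G → ℂ) : ℕ) := by
          exact_mod_cast (le_of_eq_of_le (by ring) (h2.trans h1))
        push_cast at h3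
        nlinarith
      · exact e'
    have h3 : 2 * (n * p + 1) ≤ d + 1 := by
      have hdeg' : (∑ χ ∈ Xm, charDegree (χ : G → ℂ)) = d + 1 + Xp.card * (n * p + 1) := by
        zify; push_cast at hdeg ⊢; linarith
      omega
    have hcm : c % p = p - 1 := by
      have h4 := hdmodn rfl
      have hd1 : d % p = 1 := by
        rw [hee, show d + (p - 1) = d + (p - 1) from rfl, Nat.add_mod, Nat.mod_eq_of_lt (show p - 1 < p by omega)] at h4
        have := Nat.mod_lt d hp.pos
        rcases lt_or_ge (d % p + (p - 1)) p with h5 | h5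
        · rw [Nat.mod_eq_of_lt h5] at h4; omega
        · rw [Nat.mod_eq_sub_mod h5, Nat.mod_eq_of_lt (by omega)] at h4; omega
      have := mod_cofactor hc.symm hd1
      rw [one_mul, hemod, hee] at this
      exact this
    have h4 : p - 1 ≤ c := hcm ▸ Nat.mod_le c p
    have h5 : d * (p - 1) ≤ e * (n * p + 1) := hc ▸ Nat.mul_le_mul_left d h4
    rw [hee, mul_comm (p - 1)] at h5
    have := Nat.le_of_mul_le_mul_right h5 (by omega)
    omega
  rw [Finset.sum_congr rfl hdegm, Finset.sum_const, smul_eq_mul] at hdeg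
  -- a negative character exists
  have hXm0 : Xm.card ≠ 0 := by
    intro h0
    rw [h0, zero_mul, Nat.cast_zero, sub_zero] at hdeg
    have hε' : ε = 1 := hε.resolve_right fun e' => by
      rw [e'] at hdeg; push_cast at hdeg; nlinarith
    subst hε'
    rw [one_mul] at hdeg
    have hd' : d = 1 + Xp.card * (n * p + 1) := by exact_mod_cast hdeg
    have hdm : d % p = e := by
      have := hY θ₀ hθ₀
      rw [← hd] at this
      exact mod_eq_of_modEq (by simpa using this) hep
    have hcm : c % p = 1 := by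
      have h1 := mod_cofactor hc.symm hdm
      rw [hemod] at h1
      have h2 : ((e : ℕ) : ZMod p) * (c : ZMod p) = (e : ZMod p) * 1 := by
        rw [mul_one, ← Nat.cast_mul, ZMod.natCast_eq_natCast_iff']
        exact h1.trans (Nat.mod_eq_of_lt hep).symm
      have he0 : ((e : ℕ) : ZMod p) ≠ 0 := fun h => by
        rw [ZMod.natCast_eq_zero_iff] at h
        have := Nat.le_of_dvd (by omega) h; omega
      have h3 := congrArg ZMod.val (mul_left_cancel₀ he0 h2)
      rwa [ZMod.val_natCast, ZMod.val_one] at h3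
    rcases Nat.eq_or_lt_of_le (show 1 ≤ c by
      rcases c with _ | c <;> simp at hcm ⊢) with h1 | h1
    · rw [← h1, mul_one] at hc
      obtain ⟨a, ha⟩ : ∃ a, e = a + 1 := ⟨e - 1, by omega⟩
      rw [show Xp.card = a by omega] at hd'
      rw [ha, Nat.succ_mul] at hc
      omega
    · have h2 : p + 1 ≤ c := by
        have h3 := Nat.div_add_mod c p
        rw [hcm] at h3
        rcases Nat.eq_zero_or_pos (c / p) with h4 | h4
        · rw [h4, mul_zero] at h3; omega
        · have := Nat.le_mul_of_pos_right p h4; omega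
      have h5 : Xp.card * (n * p + 1) * (p + 1) < e * (n * p + 1) := by
        calc Xp.card * (n * p + 1) * (p + 1) < d * (p + 1) :=
              Nat.mul_lt_mul_of_pos_right (by omega) (by omega)
          _ ≤ d * c := Nat.mul_le_mul_left d h2
          _ = _ := hc.symm
      have h6 : (n * p + 1) * e ≤ Xp.card * (n * p + 1) * (p + 1) := by
        rw [mul_comm (Xp.card), mul_assoc]
        refine Nat.mul_le_mul_left _ ?_
        calc e ≤ 1 * (p + 1) := by omega
          _ ≤ Xp.card * (p + 1) := Nat.mul_le_mul_right _ (by omega)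
      rw [mul_comm e] at h5
      omega
  obtain ⟨χ₀, hχ₀⟩ := Finset.card_pos.1 (Nat.pos_of_ne_zero hXm0)
  obtain ⟨hχ₀X, hχ₀s⟩ := hmm χ₀ hχ₀
  have hχ₀d : (χ₀ : G → ℂ) 1 = ((p : ℂ) - 1) := by
    rw [CharApps.deg_eq, hdegm χ₀ hχ₀, Nat.cast_sub hp.one_lt.le, Nat.cast_one]
  have hker : ∀ g : G, (χ₀ : G → ℂ) g = (χ₀ : G → ℂ) 1 → g = 1 := by
    intro g hg
    haveI := CharApps.charKer_normal χ₀
    have hxK : x ∉ CharApps.charKer χ₀ := fun h => by
      rw [CharApps.mem_charKer, hXval χ₀ hχ₀X x hx hx1, hχ₀s, hχ₀d] at h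
      push_cast at h
      exact hp.ne_zero (by exact_mod_cast (show (p : ℂ) = 0 by linear_combination -h))
    have hcop : ¬ p ∣ Nat.card (CharApps.charKer χ₀) := by
      intro hdvd
      obtain ⟨⟨k, hk⟩, hko⟩ := exists_prime_orderOf_dvd_card' p hdvd
      rw [← Subgroup.orderOf_coe] at hko
      have hkp : IsPGroup p (Subgroup.zpowers k) :=
        IsPGroup.of_card (n := 1) (by rw [Nat.card_zpowers, hko, pow_one])
      obtain ⟨Q, hQ⟩ := hkp.exists_le_sylow
      obtain ⟨γ, hγ⟩ := MulAction.exists_smul_eq G Q P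
      have hy : γ * k * γ⁻¹ ∈ (P : Subgroup G) := by
        rw [← hγ]; exact ⟨k, hQ (Subgroup.mem_zpowers k), rfl⟩
      have hy1 : γ * k * γ⁻¹ ≠ 1 := fun h => hp.ne_one
        (hko.symm.trans (orderOf_eq_one_iff.2 (conj_eq_one_iff.1 h)))
      have hle : (P : Subgroup G) ≤ CharApps.charKer χ₀ := by
        rw [← Blocks.zpowers_eq_of_prime_card hP hy hy1]
        exact Subgroup.zpowers_le.2 (Subgroup.Normal.conj_mem inferInstance k hk γ)
      exact hxK (hle hx)
    have := Base.le_pPrimeCore_of_not_dvd hcop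
    rw [hS.core, le_bot_iff] at this
    exact Subgroup.mem_bot.1 (this ▸ (CharApps.mem_charKer.2 hg))
  -- the centralizer
  have hreg1 : ∀ y ∈ Subgroup.centralizer ((P : Subgroup G) : Set G), ¬ p ∣ orderOf y → y = 1 := by
    intro y hy hyreg
    refine hker y ?_
    haveI := Fintype.ofFinite (P : Subgroup G)
    have hsum : ∀ z ∈ Subgroup.centralizer ((P : Subgroup G) : Set G), ¬ p ∣ orderOf z →
        ∑ᶠ h : (P : Subgroup G), (χ₀ : G → ℂ) (z * h) = (χ₀ : G → ℂ) z - ((p : ℂ) - 1) := by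
      intro z hz hzreg
      rw [finsum_eq_sum_of_fintype, ← Finset.add_sum_erase _ _ (Finset.mem_univ 1),
        Subgroup.coe_one, mul_one, Finset.sum_congr rfl fun u hu => by
          rw [← (Subgroup.mem_centralizer_iff.1 hz u u.2 : _ = z * _),
            (hX χ₀ hχ₀X).2.2 u u.2 (fun e' => Finset.ne_of_mem_erase hu (Subtype.ext e')) z hz hzreg,
            hχ₀s],
        Finset.sum_const, Finset.card_erase_of_mem (Finset.mem_univ _), Finset.card_univ,
        ← Nat.card_eq_fintype_card, hP, nsmul_eq_mul, Nat.cast_sub hp.one_lt.le]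
      push_cast; ring
    have h0 : mult (P : Subgroup G) χ₀ = 0 := eq_mult (by
      rw [finsum_congr (g := fun h : (P : Subgroup G) => (χ₀ : G → ℂ) (1 * h)) fun h => by rw [one_mul],
        hsum 1 (one_mem _) h1reg, hχ₀d]
      simp)
    have hK : mult ((P : Subgroup G) ⊔ Subgroup.zpowers y) χ₀ = mult (P : Subgroup G) χ₀ := by
      have h1 := mult_mono (H := (P : Subgroup G)) (K := (P : Subgroup G) ⊔ Subgroup.zpowers y)
        le_sup_left χ₀
      omega
    have h := sum_coset_of_mult_eq le_sup_left hK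
      (Subgroup.mem_sup_right (Subgroup.mem_zpowers y))
    rw [hsum y hy hyreg, h0, Nat.cast_zero, mul_zero, sub_eq_zero] at h
    rw [h, hχ₀d]
  have hCP : Subgroup.centralizer ((P : Subgroup G) : Set G) = (P : Subgroup G) := by
    refine le_antisymm (fun y hy => ?_) (fun z hz w hw => Blocks.comm_of_prime_card hP w hw z hz)
    have hyp : y ^ p = 1 := hreg1 _ (pow_mem hy p) fun hd' => by
      rw [orderOf_pow] at hd'
      by_cases hpy : p ∣ orderOf y
      · rw [Nat.gcd_eq_right hpy] at hd'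
        refine not_sq_dvd hP ((Nat.dvd_trans ?_ (orderOf_dvd_natCard y)))
        rw [pow_two]
        exact (Nat.dvd_div_iff_mul_dvd hpy).1 hd'
      · exact hpy (hd'.trans (Nat.div_dvd_of_dvd (Nat.gcd_dvd_left _ _)))
    have hkp : IsPGroup p (Subgroup.zpowers y) := fun ⟨z, hz⟩ => ⟨1, by
      obtain ⟨i, rfl⟩ := Subgroup.mem_zpowers_iff.1 hz
      refine Subtype.ext ?_
      show (y ^ i) ^ (p ^ 1) = 1
      rw [pow_one, ← zpow_natCast, ← zpow_mul, mul_comm, zpow_mul, zpow_natCast, hyp, one_zpow]⟩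
    have hmem : y ∈ Subgroup.zpowers y ⊓ Subgroup.normalizer ((P : Subgroup G) : Set G) :=
      Subgroup.mem_inf.2 ⟨Subgroup.mem_zpowers y, Subgroup.centralizer_le_normalizer _ hy⟩
    exact ((hkp.inf_normalizer_sylow P).le hmem).2
  have hcent : ∀ z ∈ (P : Subgroup G), z ≠ 1 →
      Subgroup.centralizer ({z} : Set G) = (P : Subgroup G) := fun z hz hz1 => by
    rw [centralizer_singleton_eq hP hz hz1, hCP]
  have hzx := Blocks.zpowers_eq_of_prime_card hP hx hx1
  have hCx : Subgroup.centralizer ({x} : Set G) = Subgroup.zpowers x := by rw [hcent x hx hx1, hzx]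
  have hox : orderOf x = p := by rw [← Nat.card_zpowers, hzx]; exact hP
  have hrel' : (Subgroup.zpowers x).relIndex
      (Subgroup.normalizer (Subgroup.zpowers x : Set G)) = e := by
    rw [hzx, he, autIndex, hCP]
  have hteven : Even t := by
    have h := Blocks.even_classes_or_index hox hCx χ₀ (by rw [hdegm χ₀ hχ₀]; omega)
    have h2 := BlockOrth.card_classes_mul hox hCx
    rw [hrel', ← hYc] at h2
    rw [Nat.eq_of_mul_eq_mul_right (by omega) h2, hperf, Subgroup.index_top] at h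
    exact h.resolve_right Nat.not_even_one
  have ht2 : 2 ≤ t := by obtain ⟨k, hk⟩ := hteven; omega
  have hG : Nat.card G = p * e * (n * p + 1) := by
    rw [← (Subgroup.centralizer ((P : Subgroup G) : Set G)).card_mul_index, hidx, hCP, hP, mul_assoc]
  have hN : Nat.card (Subgroup.normalizer ((P : Subgroup G) : Set G)) = p * e := by
    have h := (Subgroup.normalizer ((P : Subgroup G) : Set G)).card_mul_index
    rw [hG, show (Subgroup.normalizer ((P : Subgroup G) : Set G)).index = 1 + n * p from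
      (Sylow.card_eq_index_normalizer P).symm.trans hS.card_sylow, add_comm 1] at h
    exact Nat.eq_of_mul_eq_mul_right (Nat.succ_pos _) h
  haveI : Nontrivial G := ⟨⟨x, 1, hx1⟩⟩
  have hsimple : IsSimpleGroup G := ⟨fun K hK => by
    by_cases hxK : x ∈ K
    · exact Or.inr (top_le_iff.1 (hperf.ge.trans (BlockOrth.normal_of_mem hox hCx K hxK).1))
    · exact Or.inl (le_bot_iff.1 (hS.core ▸ BlockOrth.le_pPrimeCore_of_notMem hox hCx K hxK))⟩
  obtain ⟨O, hO⟩ : ∃ s, s = (Finset.univ \ X) \ Y := ⟨_, rfl⟩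
  have hsplit : ∀ f : IrrCharacter G → ℂ,
      ∑ χ, f χ = f (principal G) + ∑ χ ∈ Xp, f χ + ∑ χ ∈ Xm, f χ + ∑ χ ∈ Y, f χ + ∑ χ ∈ O, f χ := by
    intro f
    have hsub : Y ⊆ Finset.univ \ X := fun θ hθ =>
      Finset.mem_sdiff.2 ⟨Finset.mem_univ _, fun h => Finset.disjoint_left.1 hXY h hθ⟩
    rw [← Finset.sum_sdiff (Finset.subset_univ X), ← Finset.sum_sdiff hsub, ← hO, hXsum]
    ring
  refine ⟨e, t, Xp.card, d, ε, Xp, Xm, Y, O, ?_⟩
  refine
    { p_odd := ne_two hperf hP, n_pos := hn, e_two := he2, t_two := ht2, t_even := hteven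
      et := by rw [mul_comm, hYc]
      card_P := hP, card_sylow := hS.card_sylow, cent := hcent, card_N := hN, card_G := hG
      simple := hsimple, e_split := hcount, card_Xp := rfl, card_Y := ht.symm
      sum_split := fun f inst => by convert hsplit f
      deg_Xp := fun χ hχ => by
        rw [CharApps.deg_eq, hpos χ (hmp χ hχ).1 (hmp χ hχ).2.1 (hmp χ hχ).2.2]
      deg_Xm := fun χ hχ => by rw [CharApps.deg_eq, hdegm χ hχ]
      deg_Y := fun χ hχ => by rw [CharApps.deg_eq, hdY χ hχ]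
      val_Xp := fun χ hχ z hz hz1 => by
        rw [hXval χ (hmp χ hχ).1 z hz hz1, (hmp χ hχ).2.2, Int.cast_one]
      val_Xm := fun χ hχ z hz hz1 => by
        rw [hXval χ (hmm χ hχ).1 z hz hz1, (hmm χ hχ).2]; simp
      val_O := ?_
      sum_Y := hsumY, rel := hrel2
      cases := ?_ }
  · intro χ hχ z hz hz1
    have h := second_orthogonality z z
    rw [if_pos (IsConj.refl z), hcent z hz hz1, hP,
      hsplit fun χ => (χ : G → ℂ) z * conj ((χ : G → ℂ) z)] at h
    have h2 := hnorm z hz hz1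
    rw [hXsum fun χ => (χ : G → ℂ) z * conj ((χ : G → ℂ) z)] at h2
    have h3 : ∑ χ ∈ O, (χ : G → ℂ) z * conj ((χ : G → ℂ) z) = 0 := by linear_combination h - h2
    simp only [Complex.mul_conj, ← Complex.ofReal_sum, Complex.ofReal_eq_zero] at h3
    have h4 := (Finset.sum_eq_zero_iff_of_nonneg fun ψ _ => Complex.normSq_nonneg _).1 h3 χ hχ
    exact Complex.normSq_eq_zero.1 h4
  have hXm_card : Xm.card = e - 1 - Xp.card := by omega
  rcases hε with rfl | rfl
  · left
    have hdm : d % p = e := by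
      have := hY θ₀ hθ₀
      rw [← hd] at this
      exact mod_eq_of_modEq (by simpa using this) hep
    have hcm : c % p = 1 := by
      have h1 := mod_cofactor hc.symm hdm
      rw [hemod] at h1
      have h2 : ((e : ℕ) : ZMod p) * (c : ZMod p) = (e : ZMod p) * 1 := by
        rw [mul_one, ← Nat.cast_mul, ZMod.natCast_eq_natCast_iff']
        exact h1.trans (Nat.mod_eq_of_lt hep).symm
      have he0 : ((e : ℕ) : ZMod p) ≠ 0 := fun h => by
        rw [ZMod.natCast_eq_zero_iff] at h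
        have := Nat.le_of_dvd (by omega) h; omega
      have h3 := congrArg ZMod.val (mul_left_cancel₀ he0 h2)
      rwa [ZMod.val_natCast, ZMod.val_one] at h3
    have hde : d = e := by
      rcases hS.noDiv c (hMdvd c (Dvd.intro_left _ hc.symm)) hcm with h | h
      · exfalso
        rw [h, mul_one] at hc
        have h1 : ((Y.card * d ^ 2 : ℕ) : ℝ) ≤ Nat.card G := by
          have h2 := second_orthogonality (1 : G) 1
          rw [if_pos (IsConj.refl _), Subgroup.centralizer_eq_top_iff_subset.2 (by simp [Subgroup.one_mem]),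
            Subgroup.card_top] at h2
          have h3 := congrArg Complex.re h2
          rw [Complex.re_sum, Complex.natCast_re] at h3
          rw [← h3]
          refine le_of_eq_of_le ?_ (Finset.sum_le_sum_of_subset_of_nonneg (Finset.subset_univ Y)
            fun ψ _ _ => ?_)
          · rw [Finset.sum_congr rfl fun θ hθ => by rw [CharApps.deg_eq, hdY θ hθ],
              Finset.sum_const, nsmul_eq_mul, map_natCast, ← Nat.cast_mul, Complex.natCast_re]
            push_cast; ring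
          · rw [Complex.mul_conj, Complex.ofReal_re]; exact Complex.normSq_nonneg _
        have h2 : Y.card * d ^ 2 ≤ Nat.card G := by exact_mod_cast h1
        rw [← ht, ← hc, hG] at h2
        have h3 : t * e * (n * p + 1) * (e * (n * p + 1)) ≤ p * (e * (n * p + 1)) := by
          calc _ = t * (e * (n * p + 1)) ^ 2 := by ring
            _ ≤ p * e * (n * p + 1) := h2
            _ = _ := by ring
        have h4 := Nat.le_of_mul_le_mul_right h3 (Nat.mul_pos (by omega) (by omega))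
        rw [hYc] at h4
        have h5 : 2 * (n * p + 1) ≤ (p - 1) * (n * p + 1) := Nat.mul_le_mul_right _ (by
          have := ne_two hperf hP; omega)
        omega
      · have h1 : d ≤ e := by
          by_contra! hlt
          have := Nat.mul_lt_mul_of_lt_of_le hlt h ((Nat.succ_pos _).trans_le h)
          omega
        have := Nat.mod_le d p
        omega
    refine ⟨rfl, hde, ?_⟩
    rw [hde] at hdeg
    push_cast [Nat.cast_sub hp.one_lt.le] at hdeg
    have hcount' : (Xm.card : ℤ) = e - 1 - Xp.card := by omega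
    rw [hcount'] at hdeg
    have : (p : ℤ) * e = p * (1 + Xp.card * (n + 1)) := by linear_combination hdeg
    exact_mod_cast mul_left_cancel₀ (Int.natCast_ne_zero.2 hp.ne_zero) this
  · right
    refine ⟨rfl, ?_⟩
    have h4 := hdmodn rfl
    have hdz : ((d : ℕ) : ZMod p) = -(e : ZMod p) := by
      refine eq_neg_of_add_eq_zero_left ?_
      rw [← Nat.cast_add, ← ZMod.natCast_mod, h4, Nat.cast_zero]
    have hez : ((e * t : ℕ) : ZMod p) = -1 := by
      rw [mul_comm, hYc, Nat.cast_sub hp.one_lt.le, ZMod.natCast_self, Nat.cast_one, zero_sub]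
    have hcm : p - 1 ≤ c := by
      have h1 : ((c : ℕ) : ZMod p) = ((p - 1 : ℕ) : ZMod p) := by
        have h2 : ((d * c : ℕ) : ZMod p) = (e : ZMod p) := by
          rw [← hc]; push_cast; rw [ZMod.natCast_self]; ring
        push_cast [hdz] at h2
        have he0 : ((e : ℕ) : ZMod p) ≠ 0 := fun h => by
          rw [ZMod.natCast_eq_zero_iff] at h
          have := Nat.le_of_dvd (by omega) h; omega
        rw [Nat.cast_sub hp.one_lt.le, ZMod.natCast_self, Nat.cast_one, zero_sub]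
        refine mul_left_cancel₀ he0 ?_
        linear_combination -h2
      rw [ZMod.natCast_eq_natCast_iff', Nat.mod_eq_of_lt (show p - 1 < p by omega)] at h1
      exact h1 ▸ Nat.mod_le c p
    have hDmod : (d * t) % p = 1 := by
      have h1 : ((d * t : ℕ) : ZMod p) = ((1 : ℕ) : ZMod p) := by
        push_cast [hdz]
        push_cast at hez
        linear_combination -hez
      rwa [ZMod.natCast_eq_natCast_iff', Nat.mod_eq_of_lt hp.one_lt] at h1
    have hdt : d * t = n * p + 1 := by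
      have hdvd : d * t ∣ (p - 1) * (n * p + 1) :=
        ⟨c, by rw [← hYc, mul_assoc t, hc]; ring⟩
      refine le_antisymm ?_ ((hS.noDiv _ hdvd hDmod).resolve_left fun h => by
        have := Nat.le_mul_of_pos_left t (Nat.pos_of_ne_zero hd0); omega)
      have h1 : d * (p - 1) ≤ e * (n * p + 1) := hc ▸ Nat.mul_le_mul_left d hcm
      rw [← hYc, ← mul_assoc, mul_comm _ e] at h1
      exact Nat.le_of_mul_le_mul_left h1 (by omega)
    have hpet : p = e * t + 1 := by rw [mul_comm, hYc]; omega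
    obtain ⟨m, hm⟩ : ∃ m : ℤ, m = (d : ℤ) - n * e := ⟨_, rfl⟩
    have hdtz : (d : ℤ) * t = n * (e * t + 1) + 1 := by
      have := congrArg (Nat.cast (R := ℤ)) hdt
      rw [hpet] at this; push_cast at this; exact this
    have hnm : (n : ℤ) + 1 = t * m := by rw [hm]; linear_combination -hdtz
    have hm0 : 0 ≤ m := nonneg_of_mul_nonneg_right (hnm ▸ (by positivity : (0 : ℤ) ≤ n + 1))
      (by omega : (0 : ℤ) < t)
    obtain ⟨m, rfl⟩ := Int.eq_ofNat_of_zero_le hm0
    refine ⟨m, by exact_mod_cast hnm, hdt, ?_, ?_⟩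
    · rw [hpet]; zify; linear_combination -hm + (e : ℤ) * hnm
    · rw [hpet, Nat.add_sub_cancel] at hdeg
      push_cast at hdeg
      have hcount' : (Xm.card : ℤ) = e - 1 - Xp.card := by omega
      rw [hcount'] at hdeg
      have : ((e : ℤ) * t + 1) * e = (e * t + 1) * (1 + (Xp.card * t + 1) * m) := by
        linear_combination hdeg - hm + ((e : ℤ) + (Xp.card : ℤ) * (e * t + 1)) * hnm
      exact_mod_cast mul_left_cancel₀ (by positivity : ((e : ℤ) * t + 1) ≠ 0) this

end CfsgLib.Brauer43
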