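import Cfsg.Agent.Lib.Brauer43.Degrees

/-!
# The normalizer of the Sylow subgroup and its fixed points
-/

set_option autoImplicit false
set_option linter.style.haveILetI false
set_option linter.unusedSectionVars false

namespace CfsgLib.Brauer43

open Cfsg CfsgLib.Chars Finset MulAction
open scoped ComplexConjugate Pointwise

universe u

variable {G : Type u} [Group G] [Finite G] {p : ℕ} [Fact p.Prime]
  {P : Sylow p G} {n e t a d : ℕ} {ε : ℤ} {Xp Xm Y O : Finset (IrrCharacter G)}

theorem Data.p_eq (D : Data P n e t a d ε Xp Xm Y O) : p = e * t + 1 := by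
  have := (Fact.out : p.Prime).two_le
  have := D.et
  omega

theorem Data.e_lt (D : Data P n e t a d ε Xp Xm Y O) : e < p := by
  have h1 := Nat.le_mul_of_pos_right e (by have := D.t_two; omega : 0 < t)
  have := D.p_eq
  omega

/-- An element of the normalizer outside `P` is conjugate to its translates by `P`. -/
theorem Data.conj_translate (D : Data P n e t a d ε Xp Xm Y O) {h : G}
    (hN : h ∈ Subgroup.normalizer ((P : Subgroup G) : Set G)) (hP : h ∉ (P : Subgroup G))
    {u : G} (hu : u ∈ (P : Subgroup G)) :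
    ∃ v ∈ (P : Subgroup G), v * h * v⁻¹ = u * h := by
  let f : ↥(P : Subgroup G) → ↥(P : Subgroup G) := fun v =>
    ⟨(v : G) * (h * (v : G)⁻¹ * h⁻¹),
      mul_mem v.2 ((Subgroup.mem_normalizer_iff.1 hN _).1 (inv_mem v.2))⟩
  have hinj : Function.Injective f := by
    intro v w hvw
    have h1 : (v : G) * h * (v : G)⁻¹ = w * h * (w : G)⁻¹ := by
      have := congrArg (· * h) (congrArg Subtype.val hvw)
      simpa [f, mul_assoc] using this
    by_contra hne
    have hz : (w : G)⁻¹ * v ∈ (P : Subgroup G) := mul_mem (inv_mem w.2) v.2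
    have hz1 : (w : G)⁻¹ * v ≠ 1 := fun e' => hne (Subtype.ext (inv_mul_eq_one.1 e').symm)
    refine hP ?_
    rw [← D.cent _ hz hz1, Subgroup.mem_centralizer_singleton_iff]
    calc h * ((w : G)⁻¹ * v) = (w : G)⁻¹ * (w * h * (w : G)⁻¹) * v := by group
      _ = _ := by rw [← h1]; group
  obtain ⟨v, hv⟩ := Finite.injective_iff_surjective.1 hinj ⟨u, hu⟩
  refine ⟨v, v.2, ?_⟩
  have h1 : (v : G) * (h * (v : G)⁻¹ * h⁻¹) = u := congrArg Subtype.val hv
  rw [← h1]; group

theorem Data.apply_translate (D : Data P n e t a d ε Xp Xm Y O) (χ : IrrCharacter G) {h : G}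
    (hN : h ∈ Subgroup.normalizer ((P : Subgroup G) : Set G)) (hP : h ∉ (P : Subgroup G)) :
    ∑ᶠ u : (P : Subgroup G), (χ : G → ℂ) (h * u) = (p : ℂ) * (χ : G → ℂ) h := by
  haveI := Fintype.ofFinite (P : Subgroup G)
  rw [finsum_eq_sum_of_fintype]
  rw [Finset.sum_congr rfl (g := fun _ => (χ : G → ℂ) h) fun u _ => ?_, Finset.sum_const,
    Finset.card_univ, ← Nat.card_eq_fintype_card, D.card_P, nsmul_eq_mul]
  obtain ⟨v, -, hv⟩ := D.conj_translate hN hP
    ((Subgroup.mem_normalizer_iff.1 hN u).1 u.2)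
  rw [show h * (u : G) = h * (u : G) * h⁻¹ * h by group, ← hv]
  exact isClassFunction_irr χ h v

/-- A generator of a complement of `P` in its normalizer. -/
theorem Data.exists_gen (D : Data P n e t a d ε Xp Xm Y O) :
    ∃ g : G, g ∈ Subgroup.normalizer ((P : Subgroup G) : Set G) ∧ orderOf g = e ∧
      (∀ h ∈ Subgroup.zpowers g, h ≠ 1 → h ∉ (P : Subgroup G)) ∧
      ∀ h ∈ Subgroup.normalizer ((P : Subgroup G) : Set G), h ∉ (P : Subgroup G) →
        ∃ v ∈ (P : Subgroup G), ∃ i ∈ Subgroup.zpowers g, i ≠ 1 ∧ v * i * v⁻¹ = h := by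
  classical
  haveI := Fintype.ofFinite G
  set N := Subgroup.normalizer ((P : Subgroup G) : Set G) with hNdef
  haveI : IsCyclic (P : Subgroup G) := isCyclic_of_prime_card D.card_P
  set f := (P : Subgroup G).normalizerMonoidHom
  haveI : Fact (Nat.card (P : Subgroup G)).Prime := ⟨by rw [D.card_P]; exact Fact.out⟩
  haveI : IsCyclic (MulAut (P : Subgroup G)) :=
    isCyclic_of_surjective (IsCyclic.mulAutMulEquiv (P : Subgroup G)).symm.toMonoidHom
      (IsCyclic.mulAutMulEquiv (P : Subgroup G)).symm.surjective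
  have hCP : Subgroup.centralizer ((P : Subgroup G) : Set G) = (P : Subgroup G) := by
    haveI : Nontrivial (P : Subgroup G) :=
      Finite.one_lt_card_iff_nontrivial.1 ((Fact.out : p.Prime).one_lt.trans_eq D.card_P.symm)
    obtain ⟨⟨x, hx⟩, hx1⟩ := exists_ne (1 : (P : Subgroup G))
    rw [← centralizer_singleton_eq D.card_P hx fun h => hx1 (Subtype.ext h),
      D.cent x hx fun h => hx1 (Subtype.ext h)]
  have hker : ∀ w, f w = 1 ↔ (w : G) ∈ (P : Subgroup G) := fun w => by
    rw [← MonoidHom.mem_ker, Subgroup.normalizerMonoidHom_ker, Subgroup.mem_subgroupOf, hCP]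
  have hrange : Nat.card f.range = e := by
    rw [Blocks.card_range_normalizerMonoidHom]
    have h := Subgroup.relIndex_mul_index
      (Subgroup.centralizer_le_normalizer ((P : Subgroup G) : Set G))
    rw [hCP] at h ⊢
    have h2 := (P : Subgroup G).card_mul_index
    have h3 := N.card_mul_index
    rw [D.card_P, ← h] at h2
    rw [D.card_N, ← h2, ← mul_assoc] at h3
    exact (Nat.eq_of_mul_eq_mul_left (Fact.out : p.Prime).pos
      (Nat.eq_of_mul_eq_mul_right (Nat.pos_of_ne_zero Subgroup.index_ne_zero_of_finite) h3)).symm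
  obtain ⟨⟨_, g, rfl⟩, hgen⟩ := IsCyclic.exists_ofOrder_eq_natCard (α := f.range)
  rw [hrange, ← Subgroup.orderOf_coe] at hgen
  have hgo : orderOf (f g) = e := hgen
  have hgP : (g : G) ∉ (P : Subgroup G) := fun h => by
    rw [(hker g).2 h, orderOf_one] at hgo
    have := D.e_two; omega
  have hge : ((g : G)) ^ e = 1 := by
    by_contra hne
    have hm : (g : G) ^ e ∈ (P : Subgroup G) := by
      have := (hker (g ^ e)).1 (by rw [map_pow, ← hgo, pow_orderOf_eq_one])
      rwa [Subgroup.coe_pow] at this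
    refine hgP ((D.cent _ hm hne).le ?_)
    rw [Subgroup.mem_centralizer_singleton_iff]
    exact (Commute.self_pow (g : G) e).eq
  have ho : orderOf (g : G) = e :=
    Nat.dvd_antisymm (orderOf_dvd_of_pow_eq_one hge) (by
      rw [← hgo, Subgroup.orderOf_coe]
      exact orderOf_map_dvd f g)
  have hout : ∀ h ∈ Subgroup.zpowers (g : G), h ≠ 1 → h ∉ (P : Subgroup G) := by
    intro h hh hh1 hP
    obtain ⟨i, rfl⟩ := Subgroup.mem_zpowers_iff.1 hh
    have h1 := (hker (g ^ i)).2 (by rwa [Subgroup.coe_zpow])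
    rw [map_zpow, ← orderOf_dvd_iff_zpow_eq_one, hgo, ← ho, orderOf_dvd_iff_zpow_eq_one] at h1
    exact hh1 h1
  refine ⟨g, g.2, ho, hout, fun h hh hP => ?_⟩
  have hmem : (⟨f ⟨h, hh⟩, ⟨h, hh⟩, rfl⟩ : f.range) ∈ Subgroup.zpowers (⟨f g, g, rfl⟩ : f.range) := by
    have htop : Subgroup.zpowers (⟨f g, g, rfl⟩ : f.range) = ⊤ := by
      refine Subgroup.eq_top_of_card_eq _ ?_
      rw [Nat.card_zpowers, hrange, ← Subgroup.orderOf_coe]; exact hgo
    rw [htop]; trivial
  obtain ⟨i, hi⟩ := Subgroup.mem_zpowers_iff.1 hmem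
  have hi' : f g ^ i = f ⟨h, hh⟩ := by simpa using congrArg Subtype.val hi
  have hw : h * ((g : G) ^ i)⁻¹ ∈ (P : Subgroup G) := by
    have h1 : f (⟨h, hh⟩ * (g ^ i)⁻¹) = 1 := by
      rw [map_mul, map_inv, map_zpow, hi', mul_inv_cancel]
    simpa using (hker _).1 h1
  have hi1 : (g : G) ^ i ≠ 1 := fun h0 => hP (by simpa [h0] using hw)
  obtain ⟨v, hv, hv'⟩ := D.conj_translate (zpow_mem g.2 i) (hout _ (zpow_mem (Subgroup.mem_zpowers _) i) hi1) hw
  exact ⟨v, hv, _, zpow_mem (Subgroup.mem_zpowers _) i, hi1, by rw [hv']; group⟩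

/-- What the permutation character on the Sylow subgroups gives. -/
structure Local (P : Sylow p G) (n e : ℕ) (Xm O : Finset (IrrCharacter G)) (g : G) : Prop where
  mem_N : g ∈ Subgroup.normalizer ((P : Subgroup G) : Set G)
  order : orderOf g = e
  notMem : ∀ h ∈ Subgroup.zpowers g, h ≠ 1 → h ∉ (P : Subgroup G)
  val_Xm : ∀ χ ∈ Xm, ∀ h ∈ Subgroup.zpowers g, h ≠ 1 → (χ : G → ℂ) h = 0
  deg_O : ∀ χ ∈ O, (χ : G → ℂ) 1 = ((p * mult (P : Subgroup G) χ : ℕ) : ℂ)
  val_O : ∀ χ ∈ O, ∀ h ∈ Subgroup.zpowers g, h ≠ 1 →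
    (χ : G → ℂ) h = (mult (P : Subgroup G) χ : ℂ)
  sum_O : ∑ χ ∈ O, mult (P : Subgroup G) χ ^ 2 = n
  perm : ∀ x : G, (Nat.card (fixedBy (Sylow p G) x) : ℂ) =
    1 + ∑ χ ∈ O, (mult (P : Subgroup G) χ : ℂ) * (χ : G → ℂ) x
  fix : ∀ h ∈ Subgroup.zpowers g, h ≠ 1 → Nat.card (fixedBy (Sylow p G) h) = n + 1
  card_norm : Nat.card (Subgroup.normalizer (Subgroup.zpowers g : Set G)) = e * (n + 1)
  norm_of_conj : ∀ u : G, ∀ h ∈ Subgroup.zpowers g, h ≠ 1 → u * h * u⁻¹ ∈ Subgroup.zpowers g →
    u ∈ Subgroup.normalizer (Subgroup.zpowers g : Set G)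

open scoped Classical in
theorem Data.exists_local (D : Data P n e t a d ε Xp Xm Y O) :
    ∃ g : G, Local P n e Xm O g := by
  haveI := Fintype.ofFinite G
  haveI := irrFintype G
  haveI := Fintype.ofFinite (P : Subgroup G)
  have hp : p.Prime := Fact.out
  obtain ⟨g, hgN, hgo, hout, hall⟩ := D.exists_gen
  have hpe := D.p_eq
  have hsumP : ∀ (χ : IrrCharacter G),
      ((χ : G → ℂ) 1) + ∑ u ∈ (univ : Finset (P : Subgroup G)).erase 1, (χ : G → ℂ) u =
        (p : ℂ) * mult (P : Subgroup G) χ := fun χ => by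
    have h := sum_eq_mult (P : Subgroup G) χ
    rw [finsum_eq_sum_of_fintype, D.card_P, ← Finset.add_sum_erase _ _ (Finset.mem_univ 1)] at h
    exact h
  have hconst : ∀ (χ : IrrCharacter G) (c : ℂ),
      (∀ x ∈ (P : Subgroup G), x ≠ 1 → (χ : G → ℂ) x = c) →
        (χ : G → ℂ) 1 + ((p : ℂ) - 1) * c = (p : ℂ) * mult (P : Subgroup G) χ := fun χ c hc => by
    have hs : ∀ u ∈ (univ : Finset (P : Subgroup G)).erase 1, (χ : G → ℂ) u = c := fun u hu =>
      hc u u.2 fun e' => Finset.ne_of_mem_erase hu (Subtype.ext e')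
    rw [← hsumP χ, Finset.sum_congr rfl hs, Finset.sum_const, Finset.card_erase_of_mem (Finset.mem_univ _),
      Finset.card_univ, ← Nat.card_eq_fintype_card, D.card_P, nsmul_eq_mul,
      Nat.cast_sub hp.one_lt.le, Nat.cast_one]
  set N := Subgroup.normalizer ((P : Subgroup G) : Set G) with hNdef
  have hPN : (P : Subgroup G) ≤ N := Subgroup.le_normalizer
  have hDN : Subgroup.zpowers g ≤ N := Subgroup.zpowers_le.2 hgN
  have hkm : ∀ χ ∈ Xm, mult (P : Subgroup G) χ = 0 := fun χ hχ => by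
    have h := hconst χ (-1) (D.val_Xm χ hχ)
    rw [D.deg_Xm χ hχ, Nat.cast_sub hp.one_lt.le] at h
    have h' : (p : ℂ) * mult (P : Subgroup G) χ = 0 := by rw [← h]; push_cast; ring
    exact_mod_cast (mul_eq_zero.1 h').resolve_left (Nat.cast_ne_zero.2 hp.ne_zero)
  have hkO : ∀ χ ∈ O, (χ : G → ℂ) 1 = ((p * mult (P : Subgroup G) χ : ℕ) : ℂ) := fun χ hχ => by
    have h := hconst χ 0 (D.val_O χ hχ)
    rw [mul_zero, add_zero] at h
    rw [h]; push_cast; ring
  have hval : ∀ χ : IrrCharacter G, mult N χ = mult (P : Subgroup G) χ →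
      ∀ h ∈ Subgroup.zpowers g, h ≠ 1 → (χ : G → ℂ) h = (mult (P : Subgroup G) χ : ℂ) := by
    intro χ he h hh hh1
    have h2 := sum_coset_of_mult_eq hPN he (hDN hh)
    rw [D.apply_translate χ (hDN hh) (hout h hh hh1), D.card_P] at h2
    exact mul_left_cancel₀ (Nat.cast_ne_zero.2 hp.ne_zero) h2
  have hperm : ∀ x : G, (Nat.card (fixedBy (Sylow p G) x) : ℂ) =
      ∑ χ : IrrCharacter G, (mult N χ : ℂ) * (χ : G → ℂ) x := fun x => by
    rw [fixedBy_eq_sum P x, Sylow.stabilizer_eq_normalizer]; rfl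
  have hdeg := hperm 1
  rw [show Nat.card (fixedBy (Sylow p G) (1 : G)) = Nat.card (Sylow p G) from
    Nat.card_congr (Equiv.subtypeUnivEquiv fun x => one_smul G x), D.card_sylow, D.sum_split,
    mult_principal, principal_apply,
    Finset.sum_congr (s₁ := Xp) rfl fun χ hχ => by rw [D.deg_Xp χ hχ, ← Nat.cast_mul],
    Finset.sum_congr (s₁ := Xm) rfl fun χ hχ => by
      rw [show mult N χ = 0 from Nat.le_zero.1 ((mult_mono hPN χ).trans (hkm χ hχ).le), Nat.cast_zero,
        zero_mul],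
    Finset.sum_congr (s₁ := Y) rfl fun χ hχ => by rw [D.deg_Y χ hχ, ← Nat.cast_mul],
    Finset.sum_congr (s₁ := O) rfl fun χ hχ => by rw [hkO χ hχ, ← Nat.cast_mul],
    Nat.cast_one, one_mul, Finset.sum_const_zero, add_zero] at hdeg
  simp only [← Nat.cast_sum] at hdeg
  have hdeg' : 1 + n * p = 1 + ∑ χ ∈ Xp, mult N χ * (n * p + 1) + (∑ χ ∈ Y, mult N χ) * d +
      ∑ χ ∈ O, mult N χ * (p * mult (P : Subgroup G) χ) := by
    rw [Finset.sum_mul]
    exact_mod_cast hdeg
  rw [← Finset.sum_mul] at hdeg'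
  have hrp : ∑ χ ∈ Xp, mult N χ = 0 := by
    by_contra h0
    have h1 := Nat.le_mul_of_pos_left (n * p + 1) (Nat.pos_of_ne_zero h0)
    omega
  rw [hrp, zero_mul, add_zero] at hdeg'
  obtain ⟨R, hR⟩ : ∃ R, R = ∑ χ ∈ Y, mult N χ := ⟨_, rfl⟩
  rw [← hR] at hdeg'
  have hpO : ∑ χ ∈ O, mult N χ * (p * mult (P : Subgroup G) χ) =
      p * ∑ χ ∈ O, mult N χ * mult (P : Subgroup G) χ := by
    rw [Finset.mul_sum]; exact Finset.sum_congr rfl fun χ _ => by ring
  rw [hpO] at hdeg'
  have hR0 : R = 0 := by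
    rcases D.cases with ⟨hε, hde, -⟩ | ⟨hε, m, -, hdt, hdem, -⟩
    · have hk : ∑ θ ∈ Y, mult (P : Subgroup G) θ = 0 := by
        have h : ∑ θ ∈ Y, (p : ℂ) * mult (P : Subgroup G) θ = 0 := by
          rw [Finset.sum_congr rfl fun θ _ => (hsumP θ).symm, Finset.sum_add_distrib,
            Finset.sum_comm, Finset.sum_congr rfl fun θ hθ => D.deg_Y θ hθ,
            Finset.sum_congr (s₁ := (univ : Finset (P : Subgroup G)).erase 1) rfl
              fun u hu => D.sum_Y u u.2
              (fun e' => Finset.ne_of_mem_erase hu (Subtype.ext e')),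
            Finset.sum_const, Finset.sum_const, Finset.card_erase_of_mem (Finset.mem_univ _),
            Finset.card_univ, ← Nat.card_eq_fintype_card, D.card_P, D.card_Y, hde, hε,
            ← D.et, nsmul_eq_mul, nsmul_eq_mul]
          push_cast; ring
        rw [← Finset.mul_sum, mul_eq_zero, or_iff_right (Nat.cast_ne_zero.2 hp.ne_zero)] at h
        exact_mod_cast h
      have := Finset.sum_le_sum (s := Y) fun θ _ => mult_mono hPN θ
      omega
    · have h1 : p ∣ R * d := by
        have h2 : p * n = R * d + p * ∑ χ ∈ O, mult N χ * mult (P : Subgroup G) χ := by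
          rw [mul_comm p n]; omega
        exact (Nat.dvd_add_left (dvd_mul_right p _)).1 (h2 ▸ dvd_mul_right p n)
      rcases (Nat.Prime.dvd_mul hp).1 h1 with h2 | h2
      · by_contra hne
        have h3 := Nat.le_of_dvd (Nat.pos_of_ne_zero hne) h2
        have h4 : t < R := by
          have := Nat.le_mul_of_pos_left t (by have := D.e_two; omega : 0 < e)
          omega
        have h5 := Nat.mul_le_mul_right d h4.le
        rw [mul_comm t d, hdt] at h5
        omega
      · exfalso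
        have h3 : p ∣ e := (Nat.dvd_add_right h2).1 (hdem ▸ dvd_mul_left p m)
        have := Nat.le_of_dvd (by have := D.e_two; omega) h3
        have := D.e_lt
        omega
  rw [hR0, zero_mul, add_zero] at hdeg'
  have hOsum : ∑ χ ∈ O, mult N χ * mult (P : Subgroup G) χ = n :=
    Nat.eq_of_mul_eq_mul_left hp.pos (by rw [mul_comm p n]; omega)
  have hO2 : ∑ χ ∈ O, mult (P : Subgroup G) χ ^ 2 = n := by
    have h := sum_degree_sq (G := G)
    rw [D.card_G, D.sum_split,
      Finset.sum_congr (s₁ := Xp) rfl fun χ hχ => by rw [D.deg_Xp χ hχ],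
      Finset.sum_congr (s₁ := Xm) rfl fun χ hχ => by rw [D.deg_Xm χ hχ],
      Finset.sum_congr (s₁ := Y) rfl fun χ hχ => by rw [D.deg_Y χ hχ],
      Finset.sum_congr (s₁ := O) rfl fun χ hχ => by rw [hkO χ hχ],
      principal_apply, Finset.sum_const, Finset.sum_const, Finset.sum_const, D.card_Xp, D.card_Y,
      nsmul_eq_mul, nsmul_eq_mul, nsmul_eq_mul] at h
    have hb : (Xm.card : ℂ) = (e : ℂ) - 1 - a := by
      have := congrArg (Nat.cast (R := ℂ)) D.e_split; push_cast at this; linear_combination this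
    have hpc : (p : ℂ) = e * t + 1 := by exact_mod_cast hpe
    rw [hb, Nat.cast_sub hp.one_lt.le] at h
    push_cast at h
    simp only [mul_pow] at h
    rw [← Finset.mul_sum] at h
    have h' : ((p : ℂ) ^ 2) * ((∑ χ ∈ O, mult (P : Subgroup G) χ ^ 2 : ℕ) : ℂ) =
        (p : ℂ) ^ 2 * (n : ℂ) := by
      push_cast
      rcases D.cases with ⟨-, hde, he1⟩ | ⟨-, m, hnm, hdt, hdem, he1⟩
      · have h1 : (e : ℂ) = 1 + a * (n + 1) := by exact_mod_cast he1
        rw [hde] at h
        rw [hpc] at h ⊢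
        linear_combination h + (((e : ℂ) * t + 1) * (n * ((e : ℂ) * t + 1) + 2 - ((e : ℂ) * t + 1))) * h1
      · have h1 : (e : ℂ) = 1 + (a * t + 1) * m := by exact_mod_cast he1
        have h2 : (n : ℂ) + 1 = t * m := by exact_mod_cast hnm
        have h3 : (d : ℂ) + e = m * p := by exact_mod_cast hdem
        rw [hpc] at h h3 ⊢
        rw [show (d : ℂ) = m * (e * t + 1) - e by linear_combination h3,
          show (n : ℂ) = t * m - 1 by linear_combination h2] at h
        rw [show (n : ℂ) = t * m - 1 by linear_combination h2]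
        rw [h1] at h ⊢
        linear_combination h
    exact_mod_cast mul_left_cancel₀ (pow_ne_zero 2 (Nat.cast_ne_zero.2 hp.ne_zero)) h'
  have hrk : ∀ χ ∈ O, mult N χ = mult (P : Subgroup G) χ := by
    have hle : ∀ χ ∈ O, mult N χ * mult (P : Subgroup G) χ ≤ mult (P : Subgroup G) χ ^ 2 :=
      fun χ _ => by rw [pow_two]; exact Nat.mul_le_mul_right _ (mult_mono hPN χ)
    intro χ hχ
    have h := (Finset.sum_eq_sum_iff_of_le hle).1 (hOsum.trans hO2.symm) χ hχ
    refine Nat.eq_of_mul_eq_mul_right ?_ (h.trans (pow_two _))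
    refine Nat.pos_of_ne_zero fun h0 => ?_
    have := hkO χ hχ
    rw [h0, mul_zero, Nat.cast_zero] at this
    exact CharApps.deg_ne_zero χ this
  have hY0 : ∀ θ ∈ Y, mult N θ = 0 := fun θ hθ => Nat.le_zero.1
    ((Finset.single_le_sum (fun θ _ => Nat.zero_le (mult N θ)) hθ).trans (hR.symm.trans hR0).le)
  have hXp0 : ∀ χ ∈ Xp, mult N χ = 0 := fun χ hχ => Nat.le_zero.1
    ((Finset.single_le_sum (fun χ _ => Nat.zero_le (mult N χ)) hχ).trans hrp.le)
  have hperm' : ∀ x : G, (Nat.card (fixedBy (Sylow p G) x) : ℂ) =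
      1 + ∑ χ ∈ O, (mult (P : Subgroup G) χ : ℂ) * (χ : G → ℂ) x := fun x => by
    rw [hperm, D.sum_split, mult_principal, principal_apply,
      Finset.sum_congr (s₁ := Xp) rfl fun χ hχ => by rw [hXp0 χ hχ, Nat.cast_zero, zero_mul],
      Finset.sum_congr (s₁ := Xm) rfl fun χ hχ => by
        rw [show mult N χ = 0 from Nat.le_zero.1 ((mult_mono hPN χ).trans (hkm χ hχ).le),
          Nat.cast_zero, zero_mul],
      Finset.sum_congr (s₁ := Y) rfl fun θ hθ => by rw [hY0 θ hθ, Nat.cast_zero, zero_mul],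
      Finset.sum_congr (s₁ := O) rfl fun χ hχ => by rw [hrk χ hχ]]
    simp
  have hfix : ∀ h ∈ Subgroup.zpowers g, h ≠ 1 → Nat.card (fixedBy (Sylow p G) h) = n + 1 := by
    intro h hh hh1
    have h2 := hperm' h
    rw [Finset.sum_congr rfl fun χ hχ => by
      rw [hval χ (hrk χ hχ) h hh hh1, ← pow_two, ← Nat.cast_pow], ← Nat.cast_sum, hO2] at h2
    exact_mod_cast h2.trans (add_comm _ _)
  have hg1 : g ≠ 1 := fun h => by
    rw [h, orderOf_one] at hgo; have := D.e_two; omega
  -- the fixed points of the complement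
  set F := fixedBy (Sylow p G) g with hF
  have hFh : ∀ h ∈ Subgroup.zpowers g, h ≠ 1 → fixedBy (Sylow p G) h = F := fun h hh hh1 => by
    have hsub : F ⊆ fixedBy (Sylow p G) h := fun Q hQ => by
      obtain ⟨i, rfl⟩ := Subgroup.mem_zpowers_iff.1 hh
      exact mem_stabilizer_iff.1 (zpow_mem (mem_stabilizer_iff.2 hQ) i)
    refine (Set.eq_of_subset_of_ncard_le hsub ?_).symm
    rw [← Nat.card_coe_set_eq, ← Nat.card_coe_set_eq, hF, hfix h hh hh1,
      hfix g (Subgroup.mem_zpowers g) hg1]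
  have hPF : P ∈ F := by
    show g • P = P
    exact mem_stabilizer_iff.1 (by rw [Sylow.stabilizer_eq_normalizer]; exact hgN)
  have hcardD : Nat.card (Subgroup.zpowers g) = e := by rw [Nat.card_zpowers, hgo]
  -- elements fixing all of `F`
  have hpw : ∀ z : G, (∀ Q ∈ F, z • Q = Q) → z ∈ Subgroup.zpowers g := by
    intro z hz
    have hzN : z ∈ N := by
      have := mem_stabilizer_iff.2 (hz P hPF)
      rwa [Sylow.stabilizer_eq_normalizer] at this
    obtain ⟨Q, hQ, hQP⟩ : ∃ Q ∈ F, Q ≠ P := by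
      by_contra! h
      have hsub : F ⊆ {P} := fun Q hQ => h Q hQ
      have := Set.ncard_le_ncard hsub
      rw [Set.ncard_singleton, ← Nat.card_coe_set_eq, hF, hfix g (Subgroup.mem_zpowers g) hg1] at this
      have := D.n_pos; omega
    -- nothing of order `p` fixes `Q`
    have hPQ : ∀ w ∈ (P : Subgroup G), w • Q = Q → w = 1 := by
      intro w hw hwQ
      by_contra hw1
      have hwN : w ∈ Subgroup.normalizer ((Q : Subgroup G) : Set G) := by
        have := mem_stabilizer_iff.2 hwQ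
        rwa [Sylow.stabilizer_eq_normalizer] at this
      have hwp : IsPGroup p (Subgroup.zpowers w) :=
        P.isPGroup'.to_le (Subgroup.zpowers_le.2 hw)
      have hwQ' : w ∈ (Q : Subgroup G) :=
        ((hwp.inf_normalizer_sylow Q).le (Subgroup.mem_inf.2 ⟨Subgroup.mem_zpowers w, hwN⟩)).2
      refine hQP (Sylow.ext (Subgroup.eq_of_le_of_card_ge ?_ ?_))
      · intro q hq
        rw [← D.cent w hw hw1, Subgroup.mem_centralizer_singleton_iff]
        exact Blocks.comm_of_prime_card ((Sylow.card_eq_multiplicity Q).trans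
          ((Sylow.card_eq_multiplicity P).symm.trans D.card_P)) q hq w hwQ'
      · exact ((Sylow.card_eq_multiplicity P).trans (Sylow.card_eq_multiplicity Q).symm).le
    by_cases hzP : z ∈ (P : Subgroup G)
    · rw [hPQ z hzP (hz Q hQ)]; exact one_mem _
    obtain ⟨v, hv, i, hi, hi1, hvi⟩ := hall z hzN hzP
    have hwP : v * i * v⁻¹ * i⁻¹ ∈ (P : Subgroup G) := by
      rw [mul_assoc, mul_assoc]
      exact mul_mem hv (by
        have := (Subgroup.mem_normalizer_iff.1 (hDN hi) _).1 (inv_mem hv)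
        simpa [mul_assoc] using this)
    have hiQ : i⁻¹ • Q = Q := by
      rw [inv_smul_eq_iff]
      exact ((hFh i hi hi1).ge hQ).symm
    have := hPQ _ hwP (by rw [mul_smul, hiQ, hvi, hz Q hQ])
    rw [hvi, mul_inv_eq_one] at this
    rw [this]; exact hi
  have hmap : ∀ u : G, ∀ h : G, fixedBy (Sylow p G) (u * h * u⁻¹) = u • fixedBy (Sylow p G) h := fun u h => by
    ext Q
    rw [Set.mem_smul_set_iff_inv_smul_mem, mem_fixedBy, mem_fixedBy, mul_smul, mul_smul,
      eq_inv_smul_iff]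
  have hnc : ∀ u : G, ∀ h ∈ Subgroup.zpowers g, h ≠ 1 → u * h * u⁻¹ ∈ Subgroup.zpowers g →
      u ∈ Subgroup.normalizer (Subgroup.zpowers g : Set G) := by
    intro u h hh hh1 hu
    have hu1 : u * h * u⁻¹ ≠ 1 := fun e' => hh1 (conj_eq_one_iff.1 e')
    have hset : u • F = F := by
      conv_lhs => rw [← hFh h hh hh1]
      rw [← hmap, hFh _ hu hu1]
    have hle : (Subgroup.zpowers g).map (MulAut.conj u).toMonoidHom ≤ Subgroup.zpowers g := by
      rintro _ ⟨w, hw, rfl⟩
      refine hpw _ fun Q hQ => ?_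
      show (u * w * u⁻¹) • Q = Q
      rcases eq_or_ne w 1 with rfl | hw1
      · simp
      · have h2 : Q ∈ fixedBy (Sylow p G) (u * w * u⁻¹) := by rw [hmap, hFh w hw hw1, hset]; exact hQ
        exact h2
    have heq := Subgroup.eq_of_le_of_card_ge hle
      (Subgroup.card_map_of_injective (MulAut.conj u).injective).ge
    rw [Subgroup.mem_normalizer_iff]
    intro w
    conv_rhs => rw [← heq]
    exact (Subgroup.mem_map_iff_mem (f := (MulAut.conj u).toMonoidHom) (MulAut.conj u).injective).symm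
  refine ⟨g, hgN, hgo, hout, fun χ hχ h hh hh1 => ?_, hkO, fun χ hχ => hval χ (hrk χ hχ), hO2, hperm', hfix,
    ?_, hnc⟩
  · have hz : mult N χ = mult (P : Subgroup G) χ := by
      have := mult_mono hPN χ; have := hkm χ hχ; omega
    rw [hval χ hz h hh hh1, hkm χ hχ, Nat.cast_zero]
  -- the normalizer of the complement
  set M := Subgroup.normalizer (Subgroup.zpowers g : Set G) with hM
  have hstab : (stabilizer M P).map M.subtype = Subgroup.zpowers g := by
    refine le_antisymm ?_ ?_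
    · rintro _ ⟨⟨z, hzM⟩, hz, rfl⟩
      have hzN : z ∈ N := by
        have : z ∈ stabilizer G P := hz
        rwa [Sylow.stabilizer_eq_normalizer] at this
      show z ∈ Subgroup.zpowers g
      by_cases hzP : z ∈ (P : Subgroup G)
      · by_contra hz1
        have hz0 : z ≠ 1 := fun e' => hz1 (e' ▸ one_mem _)
        have hc : z * g * z⁻¹ * g⁻¹ ∈ (P : Subgroup G) := by
          rw [mul_assoc, mul_assoc]
          exact mul_mem hzP (by
            have := (Subgroup.mem_normalizer_iff.1 hgN _).1 (inv_mem hzP)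
            simpa [mul_assoc] using this)
        have hc2 : z * g * z⁻¹ * g⁻¹ ∈ Subgroup.zpowers g :=
          mul_mem ((Subgroup.mem_normalizer_iff.1 hzM g).1 (Subgroup.mem_zpowers g))
            (inv_mem (Subgroup.mem_zpowers g))
        have hc1 : z * g * z⁻¹ * g⁻¹ = 1 := by
          by_contra hne; exact hout _ hc2 hne hc
        refine hout g (Subgroup.mem_zpowers g) hg1 ?_
        rw [← D.cent z hzP hz0, Subgroup.mem_centralizer_singleton_iff]
        exact (mul_inv_eq_iff_eq_mul.1 (mul_inv_eq_one.1 hc1)).symm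
      obtain ⟨v, hv, i, hi, hi1, hvi⟩ := hall z hzN hzP
      by_contra hne
      have hv1 : v ≠ 1 := fun e' => hne (by rw [← hvi, e']; simpa using hi)
      -- `z i⁻¹` lies in `P` and normalizes the complement
      have hw : z * i⁻¹ ∈ (P : Subgroup G) := by
        rw [← hvi, mul_assoc, mul_assoc]
        exact mul_mem hv (by
          have := (Subgroup.mem_normalizer_iff.1 (hDN hi) _).1 (inv_mem hv)
          simpa [mul_assoc] using this)
      have hw0 : z * i⁻¹ ≠ 1 := fun e' => hne (by rw [mul_inv_eq_one.1 e']; exact hi)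
      have hwM : z * i⁻¹ ∈ M := mul_mem hzM (inv_mem (Subgroup.le_normalizer hi))
      have hc : (z * i⁻¹) * g * (z * i⁻¹)⁻¹ * g⁻¹ ∈ (P : Subgroup G) := by
        rw [mul_assoc (z * i⁻¹), mul_assoc (z * i⁻¹)]
        exact mul_mem hw (by
          have := (Subgroup.mem_normalizer_iff.1 hgN _).1 (inv_mem hw)
          simpa [mul_assoc] using this)
      have hc2 : (z * i⁻¹) * g * (z * i⁻¹)⁻¹ * g⁻¹ ∈ Subgroup.zpowers g :=
        mul_mem ((Subgroup.mem_normalizer_iff.1 hwM g).1 (Subgroup.mem_zpowers g))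
          (inv_mem (Subgroup.mem_zpowers g))
      have hc1 : (z * i⁻¹) * g * (z * i⁻¹)⁻¹ * g⁻¹ = 1 := by
        by_contra hne'; exact hout _ hc2 hne' hc
      refine hout g (Subgroup.mem_zpowers g) hg1 ?_
      rw [← D.cent _ hw hw0, Subgroup.mem_centralizer_singleton_iff]
      exact (mul_inv_eq_iff_eq_mul.1 (mul_inv_eq_one.1 hc1)).symm
    · intro z hz
      refine ⟨⟨z, Subgroup.le_normalizer hz⟩, ?_, rfl⟩
      show z ∈ stabilizer G P
      rw [Sylow.stabilizer_eq_normalizer]; exact hDN hz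
  have horb : orbit M P = F := by
    ext Q
    constructor
    · rintro ⟨⟨z, hz⟩, rfl⟩
      show g • (z • P) = z • P
      have : z⁻¹ * g * z ∈ stabilizer G P := by
        rw [Sylow.stabilizer_eq_normalizer]
        exact hDN (by simpa using (Subgroup.mem_normalizer_iff.1 (inv_mem hz) g).1 (Subgroup.mem_zpowers g))
      have h2 := mem_stabilizer_iff.1 this
      rwa [mul_smul, mul_smul, inv_smul_eq_iff] at h2
    · intro hQ
      obtain ⟨γ, rfl⟩ := MulAction.exists_smul_eq G P Q
      have hmem : γ⁻¹ * g * γ ∈ N := by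
        have : γ⁻¹ * g * γ ∈ stabilizer G P := by
          rw [mem_stabilizer_iff, mul_smul, mul_smul, inv_smul_eq_iff]; exact hQ
        rwa [Sylow.stabilizer_eq_normalizer] at this
      have hnP : γ⁻¹ * g * γ ∉ (P : Subgroup G) := by
        intro hmemP
        have hd' : orderOf (γ⁻¹ * g * γ) ∣ Nat.card (P : Subgroup G) :=
          Subgroup.orderOf_dvd_natCard _ hmemP
        rw [D.card_P, show orderOf (γ⁻¹ * g * γ) = orderOf g by
          rw [show γ⁻¹ * g * γ = MulAut.conj γ⁻¹ g by simp]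
          exact MulEquiv.orderOf_eq _ g, hgo] at hd'
        rcases (Nat.dvd_prime hp).1 hd' with h | h
        · have := D.e_two; omega
        · have := D.e_lt; omega
      obtain ⟨v, hv, i, hi, hi1, hvi⟩ := hall _ hmem hnP
      have hu : (γ * v) * i * (γ * v)⁻¹ ∈ Subgroup.zpowers g := by
        rw [show (γ * v) * i * (γ * v)⁻¹ = γ * (v * i * v⁻¹) * γ⁻¹ by group, hvi,
          show γ * (γ⁻¹ * g * γ) * γ⁻¹ = g by group]
        exact Subgroup.mem_zpowers g
      refine ⟨⟨γ * v, hnc _ i hi hi1 hu⟩, ?_⟩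
      show (γ * v) • P = γ • P
      rw [mul_smul, show v • P = P from mem_stabilizer_iff.1 (by
        rw [Sylow.stabilizer_eq_normalizer]; exact hPN hv)]
  have h := (stabilizer M P).card_mul_index
  rw [index_stabilizer, horb, ← Nat.card_coe_set_eq, hF, hfix g (Subgroup.mem_zpowers g) hg1,
    ← Subgroup.card_map_of_injective M.subtype_injective, hstab, hcardD] at h
  exact h.symm

end CfsgLib.Brauer43
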