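import Cfsg.Agent.Lib.Brauer43.Cases
import Cfsg.Agent.Lib.Perm.DegreePrimeSuccAffine
import Cfsg.Agent.Lib.Perm.ZassG.SharpPGLEven
import Cfsg.Agent.Lib.Perm.ZassG.PSL
import Cfsg.Agent.Lib.Recog.SL2Char2
import Cfsg.Agent.Lib.Classical.Order
import Cfsg.Agent.Lib.Chars.DefectZero

/-!
# `PSL(2, p)` and `SL(2, 2 ^ m)`
-/

set_option autoImplicit false
set_option linter.style.haveILetI false
set_option linter.unusedSectionVars false

namespace CfsgLib.Brauer43

open Cfsg CfsgLib.Chars Finset MulAction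
open scoped ComplexConjugate

universe u

variable {G : Type u} [Group G] [Finite G] {p : ℕ} [Fact p.Prime]
  {P : Sylow p G} {n e t a d : ℕ} {ε : ℤ} {Xp Xm Y O : Finset (IrrCharacter G)} {g : G}

/-- A simple group acting nontrivially and transitively acts faithfully. -/
theorem faithfulSMul_of_simple [IsSimpleGroup G] {X : Type u} [MulAction G X]
    [IsPretransitive G X] (h : 1 < Nat.card X) : FaithfulSMul G X := by
  haveI : Finite X := Nat.finite_of_card_ne_zero (by omega)
  set K := (MulAction.toPermHom G X).ker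
  rcases IsSimpleGroup.eq_bot_or_eq_top_of_normal K (MonoidHom.normal_ker _) with hK | hK
  · refine ⟨fun {a b} hab => ?_⟩
    have hmem : b⁻¹ * a ∈ K := by
      rw [MonoidHom.mem_ker]
      exact Equiv.ext fun x => by
        rw [toPermHom_apply, toPerm_apply, mul_smul, hab, inv_smul_smul]; rfl
    rw [hK, Subgroup.mem_bot, inv_mul_eq_one] at hmem
    exact hmem.symm
  · exfalso
    haveI : Nontrivial X := Finite.one_lt_card_iff_nontrivial.1 h
    obtain ⟨x, y, hxy⟩ := exists_pair_ne X
    obtain ⟨γ, hγ⟩ := MulAction.exists_smul_eq G x y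
    have hγK : γ ∈ K := hK ▸ Subgroup.mem_top γ
    rw [MonoidHom.mem_ker] at hγK
    have h2 : γ • x = x := by
      have := congrArg (fun σ : Equiv.Perm X => σ x) hγK
      simpa using this
    exact hxy (h2.symm.trans hγ)

theorem psl_of_n_eq_one (D : Data P n e t a d ε Xp Xm Y O) (hn : n = 1) (he : 2 * e + 1 = p) :
    ∃ (F : Type) (_ : Field F) (_ : Fintype F), Fintype.card F = p ∧ 3 < p ∧
      Nonempty (G ≃* Matrix.ProjectiveSpecialLinearGroup (Fin 2) F) := by
  haveI := D.simple
  have hp : p.Prime := Fact.out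
  have he2 := D.e_two
  have hcard : Nat.card (Sylow p G) = p + 1 := by rw [D.card_sylow, hn, one_mul, add_comm]
  have hG : Nat.card G = (p + 1) * p * e := by rw [D.card_G, hn, one_mul]; ring
  haveI : FaithfulSMul G (Sylow p G) := faithfulSMul_of_simple (by omega)
  rcases CfsgLib.Perm.zassenhaus_or_regular_normal hp hcard hG (by omega : e < p) he2 with
    hZ | ⟨M, hM, hMt, hMr⟩
  swap
  · exfalso
    rcases IsSimpleGroup.eq_bot_or_eq_top_of_normal M hM with hb | htop
    · subst hb
      obtain ⟨Q, hQ⟩ : ∃ Q : Sylow p G, Q ≠ P := by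
        by_contra! h
        have : Subsingleton (Sylow p G) := ⟨fun a b => (h a).trans (h b).symm⟩
        have := Finite.card_le_one_iff_subsingleton.2 this
        omega
      obtain ⟨⟨z, hz⟩, hzQ⟩ := hMt.exists_smul_eq P Q
      rw [Subgroup.mem_bot] at hz
      subst hz
      exact hQ (hzQ.symm.trans (one_smul _ P))
    · have hone := hMr P
      have h1 := (stabilizer M P).card_mul_index
      rw [hone, Subgroup.card_bot, one_mul, Subgroup.index_bot, htop, Subgroup.card_top] at h1
      have h2 := (MulAction.index_stabilizer_of_transitive M P)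
      rw [hone, Subgroup.index_bot, htop, Subgroup.card_top, hcard, hG] at h2
      have h4 : (p + 1) * (p * e) = (p + 1) * 1 := by rw [mul_one]; linarith
      have := Nat.eq_one_of_mul_eq_one_left (Nat.eq_of_mul_eq_mul_left (Nat.succ_pos p) h4)
      omega
  haveI : Nontrivial (Sylow p G) := Finite.one_lt_card_iff_nontrivial.1 (by omega)
  obtain ⟨x, y, hxy⟩ := exists_pair_ne (Sylow p G)
  obtain ⟨F, hF⟩ := CfsgLib.Perm.ZassG.exists_kernel hZ hxy
  have h1 := hF.card_add_one hxy
  have h2 := CfsgLib.Perm.card_pair_succ hp hcard hG (by omega : e < p) hxy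
  obtain ⟨K, hK, hK', -, hq, hiso⟩ := CfsgLib.Perm.ZassG.exists_psl hZ hxy hF (by omega)
  exact ⟨K, hK, hK', by rw [← Nat.card_eq_fintype_card, hq]; omega, by omega, hiso⟩

/-- `PGL₂` is `SL₂` in characteristic two. -/
theorem nonempty_pgl_equiv_sl (K : Type) [Field K] [Fintype K] (h : Even (Fintype.card K)) :
    Nonempty (Matrix.ProjGenLinGroup (Fin 2) K ≃* Matrix.SpecialLinearGroup (Fin 2) K) := by
  haveI : CharP K 2 := by
    have h2 : ringChar K = 2 := FiniteField.even_card_iff_char_two.2 (Nat.even_iff.1 h)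
    exact h2 ▸ ringChar.charP K
  haveI : Finite (Matrix.ProjGenLinGroup (Fin 2) K) :=
    Finite.of_surjective _ Matrix.ProjGenLinGroup.mk_surjective
  let φ := Matrix.ProjectiveSpecialLinearGroup.toPGL (n := Fin 2) (R := K)
  let ψ := φ.comp (CfsgLib.Recog.pslEquivSL (F := K)).toMonoidHom
  have hinj : Function.Injective ψ :=
    Matrix.ProjectiveSpecialLinearGroup.toPGL_injective.comp (CfsgLib.Recog.pslEquivSL (F := K)).injective
  have hb : Function.Bijective ψ :=
    (Nat.bijective_iff_injective_and_card ψ).2 ⟨hinj, CfsgLib.Classical.card_PGL_eq_card_SL.symm⟩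
  exact ⟨(MulEquiv.ofBijective ψ hb).symm⟩

theorem sl_of_e_eq_two (D : Data P n e t a d ε Xp Xm Y O) (L : Local P n e Xm O g)
    (hε : ε = -1) (he : e = 2) (ha : a = 0) (hnt : n + 1 = t) (hdp : d + 2 = p)
    (hdt : d * t = n * p + 1) :
    ∃ (m : ℕ) (F : Type) (_ : Field F) (_ : Fintype F), Fintype.card F = 2 ^ m ∧ p = 2 ^ m + 1 ∧
      3 < p ∧ Nonempty (G ≃* Matrix.SpecialLinearGroup (Fin 2) F) := by
  classical
  haveI := D.simple
  haveI := Fintype.ofFinite G
  haveI := irrFintype G
  have hp : p.Prime := Fact.out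
  have hp2 := D.p_odd
  have hpe := D.p_eq
  have ht2 := D.t_two
  subst he
  have hp3 : 3 < p := by omega
  have hG : Nat.card G = p * (p - 1) * (p - 2) := by
    rw [D.card_G, ← hdt, show p - 1 = 2 * t by omega, show p - 2 = d by omega]; ring
  have hgD := Subgroup.mem_zpowers g
  have hg1 : g ≠ 1 := fun h => by
    have h' := L.order
    rw [h, orderOf_one] at h'; omega
  have hgg : g * g = 1 := by rw [← pow_two, ← L.order, pow_orderOf_eq_one]
  have hC : Nat.card (Subgroup.centralizer ({g} : Set G)) = p - 1 := by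
    have he' : Subgroup.centralizer ({g} : Set G) =
        Subgroup.normalizer (Subgroup.zpowers g : Set G) := by
      refine le_antisymm (fun u hu => L.norm_of_conj u g hgD hg1 ?_) (fun u hu => ?_)
      · rw [Subgroup.mem_centralizer_singleton_iff] at hu
        rw [hu, mul_inv_cancel_right]; exact hgD
      · rw [Subgroup.mem_centralizer_singleton_iff]
        obtain ⟨i, hi⟩ := Subgroup.mem_zpowers_iff.1
          ((Subgroup.mem_normalizer_iff.1 hu g).1 hgD)
        rcases Int.even_or_odd i with ⟨c, hc⟩ | ⟨c, hc⟩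
        · exfalso
          refine hg1 (conj_eq_one_iff.1 (hi.symm.trans ?_))
          rw [hc, ← two_mul, zpow_mul, zpow_two, hgg, one_zpow]
        · rw [hc, zpow_add, zpow_mul, zpow_two, hgg, one_zpow, one_mul, zpow_one] at hi
          exact (eq_mul_inv_iff_mul_eq.1 hi).symm
    rw [he', L.card_norm, hnt]; omega
  have hpodd : ∀ z : G, 2 ∣ orderOf z → ¬ p ∣ orderOf z := by
    intro z hz hpz
    have hu : orderOf (z ^ (orderOf z / p)) = p :=
      orderOf_pow_orderOf_div (orderOf_pos z).ne' hpz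
    generalize hu' : z ^ (orderOf z / p) = u at hu
    have hup : IsPGroup p (Subgroup.zpowers u) :=
      IsPGroup.of_card (n := 1) (by rw [Nat.card_zpowers, hu, pow_one])
    obtain ⟨Q, hQ⟩ := hup.exists_le_sylow
    obtain ⟨γ, hγ⟩ := MulAction.exists_smul_eq G Q P
    have hy : γ * u * γ⁻¹ ∈ (P : Subgroup G) := by
      rw [← hγ]; exact ⟨u, hQ (Subgroup.mem_zpowers u), rfl⟩
    have hy1 : γ * u * γ⁻¹ ≠ 1 := fun h => hp.ne_one
      (hu.symm.trans (orderOf_eq_one_iff.2 (conj_eq_one_iff.1 h)))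
    have hzP : γ * z * γ⁻¹ ∈ (P : Subgroup G) := by
      rw [← D.cent _ hy hy1, Subgroup.mem_centralizer_singleton_iff]
      have hc : z * u = u * z := hu' ▸ (Commute.self_pow z _).eq
      calc γ * z * γ⁻¹ * (γ * u * γ⁻¹) = γ * (z * u) * γ⁻¹ := by group
        _ = γ * (u * z) * γ⁻¹ := by rw [hc]
        _ = _ := by group
    have h := Subgroup.orderOf_dvd_natCard _ hzP
    rw [D.card_P, show γ * z * γ⁻¹ = MulAut.conj γ z from rfl, MulEquiv.orderOf_eq] at h
    have := hz.trans h
    exact hp2 ((Nat.prime_dvd_prime_iff_eq Nat.prime_two hp).1 this).symm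
  -- the negative character vanishes on elements of even order
  have hXp : Xp = ∅ := Finset.card_eq_zero.1 (D.card_Xp.trans ha)
  obtain ⟨χ₀, hχ₀⟩ : Xm.Nonempty := Finset.card_pos.1 (by have := D.e_split; omega)
  have hXm : Xm = {χ₀} := Finset.eq_singleton_iff_unique_mem.2 ⟨hχ₀, fun χ hχ =>
    Finset.card_le_one.1 (by have := D.e_split; omega) χ hχ χ₀ hχ₀⟩
  have hvan : ∀ z : G, 2 ∣ orderOf z → (χ₀ : G → ℂ) z = 0 := by
    intro z hz
    refine eq_zero_of_dvd_orderOf (p := 2) (n := (p - 1).factorization 2) (d := p - 1) χ₀.2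
      Nat.prime_two (D.deg_Xm χ₀ hχ₀) ?_ (Nat.ordProj_dvd _ _) hz
    intro hdiv
    rw [hG, show p * (p - 1) * (p - 2) = (p - 1) * (p * (p - 2)) by ring] at hdiv
    have hodd : Odd (p * (p - 2)) := by
      have h1 := hp.odd_of_ne_two hp2
      refine h1.mul ?_
      obtain ⟨k, hk⟩ := h1
      exact ⟨k - 1, by omega⟩
    have h2 : 2 ^ ((p - 1).factorization 2 + 1) ∣ p - 1 :=
      (Nat.Coprime.pow_left _ (Nat.prime_two.coprime_iff_not_dvd.2 (fun h =>
        Nat.not_even_iff_odd.2 hodd (even_iff_two_dvd.2 h)))).dvd_of_dvd_mul_right hdiv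
    have := (Nat.prime_two.pow_dvd_iff_le_factorization (by omega)).1 h2
    omega
  obtain ⟨θ₁, hθ₁⟩ : Y.Nonempty := Finset.card_pos.1 (by rw [D.card_Y]; omega)
  have hθval : ∀ θ ∈ Y, ∀ z : G, 2 ∣ orderOf z → (θ : G → ℂ) z = -1 := by
    intro θ hθ z hz
    have h := D.rel θ hθ z (hpodd z hz)
    rw [hXp, hXm, Finset.sum_empty, Finset.sum_singleton, hvan z hz, hε] at h
    push_cast at h; linear_combination -h
  -- one class of elements of even order
  have hord : orderOf g = 2 := L.order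
  have hclass : ∀ z : G, 2 ∣ orderOf z → IsConj g z := by
    intro z hz
    by_contra hne
    have h := second_orthogonality g z
    rw [if_neg (fun hh => hne hh.symm)] at h
    have h2 := congrArg conj h
    rw [map_sum, map_zero] at h2
    simp only [map_mul, RingHomCompTriple.comp_apply, Complex.conj_conj] at h2
    rw [D.sum_split, principal_apply, principal_apply, map_one, one_mul,
      Finset.sum_congr (s₁ := Xm) rfl fun χ hχ => by rw [L.val_Xm χ hχ g hgD hg1, map_zero, zero_mul],
      Finset.sum_congr (s₁ := Y) rfl fun θ hθ => by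
        rw [hθval θ hθ g hord.symm.dvd, hθval θ hθ z hz],
      Finset.sum_congr (s₁ := O) rfl fun χ hχ => by rw [L.val_O χ hχ g hgD hg1, map_natCast],
      hXp, Finset.sum_empty, Finset.sum_const_zero, Finset.sum_const, D.card_Y] at h2
    have h3 := L.perm z
    simp only [map_neg, map_one, nsmul_eq_mul, RingHom.id_apply] at h2
    have h4 : ((Nat.card (fixedBy (Sylow p G) z) + t : ℕ) : ℂ) = 0 := by
      push_cast; rw [h3]; linear_combination h2
    have h5 : Nat.card (fixedBy (Sylow p G) z) + t = 0 := by exact_mod_cast h4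
    omega
  have hinv2 : ∀ z : G, 2 ∣ orderOf z → orderOf z = 2 := fun z hz => by
    obtain ⟨γ, rfl⟩ := isConj_iff.1 (hclass z hz)
    rw [show γ * g * γ⁻¹ = MulAut.conj γ g from rfl, MulEquiv.orderOf_eq, hord]
  -- centralizers of involutions
  have hCsq : ∀ w ∈ Subgroup.centralizer ({g} : Set G), w * w = 1 := by
    intro w hw
    by_cases h2 : 2 ∣ orderOf w
    · rw [← pow_two, ← hinv2 w h2, pow_orderOf_eq_one]
    · have hc : Commute g w := (Subgroup.mem_centralizer_singleton_iff.1 hw).symm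
      have hcop : Nat.Coprime (orderOf g) (orderOf w) := by
        rw [hord]; exact Nat.prime_two.coprime_iff_not_dvd.2 h2
      have h3 := hc.orderOf_mul_eq_mul_orderOf_of_coprime hcop
      rw [hord] at h3
      have h4 := hinv2 (g * w) (h3 ▸ dvd_mul_right 2 _)
      rw [h3] at h4
      have : orderOf w = 1 := by omega
      rw [orderOf_eq_one_iff.1 this, one_mul]
  have hCu : ∀ u : G, orderOf u = 2 → Nat.card (Subgroup.centralizer ({u} : Set G)) = p - 1 ∧
      ∀ w ∈ Subgroup.centralizer ({u} : Set G), w * w = 1 := by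
    intro u hu
    obtain ⟨γ, hγ⟩ := isConj_iff.1 (hclass u hu.symm.dvd)
    have he' : Subgroup.centralizer ({u} : Set G) =
        (Subgroup.centralizer ({g} : Set G)).map (MulAut.conj γ).toMonoidHom := by
      ext w
      constructor
      · intro hw
        rw [Subgroup.mem_centralizer_singleton_iff, ← hγ] at hw
        refine ⟨γ⁻¹ * w * γ, Subgroup.mem_centralizer_singleton_iff.2 ?_, by simp [mul_assoc]⟩
        calc γ⁻¹ * w * γ * g = γ⁻¹ * (w * (γ * g * γ⁻¹)) * γ := by group
          _ = γ⁻¹ * (γ * g * γ⁻¹ * w) * γ := by rw [hw]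
          _ = _ := by group
      · rintro ⟨v, hv, rfl⟩
        rw [Subgroup.mem_centralizer_singleton_iff, ← hγ]
        have hv' := Subgroup.mem_centralizer_singleton_iff.1 hv
        show γ * v * γ⁻¹ * (γ * g * γ⁻¹) = γ * g * γ⁻¹ * (γ * v * γ⁻¹)
        calc γ * v * γ⁻¹ * (γ * g * γ⁻¹) = γ * (v * g) * γ⁻¹ := by group
          _ = γ * (g * v) * γ⁻¹ := by rw [hv']
          _ = _ := by group
    refine ⟨by rw [he', Subgroup.card_map_of_injective (MulAut.conj γ).injective, hC], ?_⟩
    intro w hw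
    rw [he'] at hw
    obtain ⟨v, hv, rfl⟩ := hw
    rw [← map_mul, hCsq v hv, map_one]
  obtain ⟨T, hT⟩ : ∃ T, T = Subgroup.centralizer ({g} : Set G) := ⟨_, rfl⟩
  have hTsq : ∀ w ∈ T, w * w = 1 := fun w hw => hCsq w (hT ▸ hw)
  have hTcard : Nat.card T = p - 1 := hT ▸ hC
  have hTcomm : ∀ v ∈ T, ∀ w ∈ T, v * w = w * v := fun v hv w hw => by
    have h := inv_eq_of_mul_eq_one_right (hTsq _ (mul_mem hv hw))
    rw [mul_inv_rev, inv_eq_of_mul_eq_one_right (hTsq v hv),
      inv_eq_of_mul_eq_one_right (hTsq w hw)] at h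
    exact h.symm
  have hTp : IsPGroup 2 T := fun w => ⟨1, Subtype.ext (by
    rw [pow_one, Subgroup.coe_pow, pow_two]; exact hTsq w w.2)⟩
  have hcentT : ∀ u ∈ T, u ≠ 1 → Subgroup.centralizer ({u} : Set G) = T := by
    intro u hu hu1
    have ho : orderOf u = 2 := orderOf_eq_prime (by rw [pow_two]; exact hTsq u hu) hu1
    refine (Subgroup.eq_of_le_of_card_ge (fun w hw => ?_) ?_).symm
    · exact Subgroup.mem_centralizer_singleton_iff.2 (hTcomm w hw u hu)
    · rw [(hCu u ho).1, hTcard]
  obtain ⟨m, hm⟩ := IsPGroup.iff_card.1 hTp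
  rw [hTcard] at hm
  have hpm : p = 2 ^ m + 1 := by omega
  have hodd2 : ¬ 2 ∣ T.index := by
    have h := T.card_mul_index
    rw [hTcard, hG, show p * (p - 1) * (p - 2) = (p - 1) * (p * (p - 2)) by ring] at h
    rw [Nat.eq_of_mul_eq_mul_left (by omega) h]
    intro hdvd
    rcases (Nat.Prime.dvd_mul Nat.prime_two).1 hdvd with h1 | h1
    · exact hp2 ((Nat.prime_dvd_prime_iff_eq Nat.prime_two hp).1 h1).symm
    · obtain ⟨k, hk⟩ := h1
      exact hp2 ((Nat.prime_dvd_prime_iff_eq Nat.prime_two hp).1 ⟨k + 1, by omega⟩).symm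
  obtain ⟨S, hST⟩ := hTp.exists_le_sylow
  have hSeq : (S : Subgroup G) = T := by
    refine (Subgroup.eq_of_le_of_card_ge hST ?_).symm
    obtain ⟨k, hk⟩ := IsPGroup.iff_card.1 S.isPGroup'
    have h := Subgroup.relIndex_mul_index hST
    have h2 : T.relIndex (S : Subgroup G) = 1 := by
      have h3 : T.relIndex (S : Subgroup G) ∣ Nat.card (S : Subgroup G) :=
        (T.subgroupOf (S : Subgroup G)).index_dvd_card
      rw [hk] at h3
      obtain ⟨j, -, hj⟩ := (Nat.dvd_prime_pow Nat.prime_two).1 h3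
      rcases j with _ | j
      · simpa using hj
      · exact absurd (h ▸ Dvd.dvd.mul_right (hj ▸ dvd_pow_self 2 (Nat.succ_ne_zero j)) _) hodd2
    exact Subgroup.card_le_of_le (Subgroup.relIndex_eq_one.1 h2)
  -- the normalizer of `T`
  have hnorm : ∀ b : G, b ∈ Subgroup.normalizer ((S : Subgroup G) : Set G) ↔
      b * g * b⁻¹ ∈ T ∧ b * g * b⁻¹ ≠ 1 := by
    intro b
    rw [hSeq]
    constructor
    · intro hb
      refine ⟨(Subgroup.mem_normalizer_iff.1 hb g).1 ?_, fun h => hg1 (conj_eq_one_iff.1 h)⟩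
      rw [hT, Subgroup.mem_centralizer_singleton_iff]
    · rintro ⟨h1, h2⟩
      have he' : T.map (MulAut.conj b).toMonoidHom = T := by
        refine Subgroup.eq_of_le_of_card_ge ?_ (Subgroup.card_map_of_injective (MulAut.conj b).injective).ge
        rintro _ ⟨w, hw, rfl⟩
        rw [← hcentT _ h1 h2, Subgroup.mem_centralizer_singleton_iff]
        rw [hT] at hw
        have hw' := Subgroup.mem_centralizer_singleton_iff.1 hw
        show b * w * b⁻¹ * (b * g * b⁻¹) = b * g * b⁻¹ * (b * w * b⁻¹)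
        calc b * w * b⁻¹ * (b * g * b⁻¹) = b * (w * g) * b⁻¹ := by group
          _ = b * (g * w) * b⁻¹ := by rw [hw']
          _ = _ := by group
      rw [Subgroup.mem_normalizer_iff]
      intro w
      conv_rhs => rw [← he']
      exact (Subgroup.mem_map_iff_mem (f := (MulAut.conj b).toMonoidHom) (MulAut.conj b).injective).symm
  have hcardN : Nat.card (Subgroup.normalizer ((S : Subgroup G) : Set G)) = (p - 2) * (p - 1) := by
    let e' : Subgroup.normalizer ((S : Subgroup G) : Set G) ≃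
        (u : {u : T // u ≠ 1}) × {b : G // b * g * b⁻¹ = (u.1 : G)} :=
      { toFun := fun b => ⟨⟨⟨_, ((hnorm b).1 b.2).1⟩, fun h => ((hnorm b).1 b.2).2 (congrArg Subtype.val h)⟩,
          b, rfl⟩
        invFun := fun q => ⟨q.2.1, (hnorm _).2 (by
          rw [q.2.2]; exact ⟨q.1.1.2, fun h => q.1.2 (Subtype.ext h)⟩)⟩
        left_inv := fun b => rfl
        right_inv := by
          rintro ⟨⟨⟨u, hu⟩, hu1⟩, ⟨b, hb⟩⟩
          simp only at hb
          subst hb
          rfl }
    haveI := Fintype.ofFinite {u : T // u ≠ 1}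
    haveI := Fintype.ofFinite T
    rw [Nat.card_congr e', Nat.card_sigma, Finset.sum_congr rfl (g := fun _ => p - 1) fun u _ => ?_,
      Finset.sum_const, Finset.card_univ, smul_eq_mul, Fintype.card_subtype_compl,
      Fintype.card_subtype_eq, ← Nat.card_eq_fintype_card, hTcard, Nat.sub_sub]
    rw [CharApps.card_conj_fiber g (hclass _ (dvd_of_eq (orderOf_eq_prime
      (by rw [pow_two]; exact hTsq _ u.1.2) (fun h => u.2 (Subtype.ext h))).symm)), hC]
  have hOm : Nat.card (Sylow 2 G) = p := by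
    rw [Sylow.card_eq_index_normalizer S]
    have h := (Subgroup.normalizer ((S : Subgroup G) : Set G)).card_mul_index
    rw [hcardN, hG, show p * (p - 1) * (p - 2) = ((p - 2) * (p - 1)) * p by ring] at h
    exact Nat.eq_of_mul_eq_mul_left (Nat.mul_pos (by omega) (by omega)) h
  haveI : FaithfulSMul G (Sylow 2 G) := faithfulSMul_of_simple (by omega)
  -- trivial intersection
  have hTI : ∀ u ∈ T, ∀ Q : Sylow 2 G, Q ≠ S → u • Q = Q → u = 1 := by
    intro u hu Q hQ huQ
    by_contra hu1
    have huN : u ∈ Subgroup.normalizer ((Q : Subgroup G) : Set G) := by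
      have := mem_stabilizer_iff.2 huQ
      rwa [Sylow.stabilizer_eq_normalizer] at this
    have huQ' : u ∈ (Q : Subgroup G) :=
      (((hTp.to_le (Subgroup.zpowers_le.2 hu)).inf_normalizer_sylow Q).le
        (Subgroup.mem_inf.2 ⟨Subgroup.mem_zpowers u, huN⟩)).2
    refine hQ (Sylow.ext ?_)
    rw [hSeq]
    refine Subgroup.eq_of_le_of_card_ge ?_ ?_
    · obtain ⟨γ, hγ⟩ := MulAction.exists_smul_eq G S Q
      intro q hq
      rw [← hcentT u hu hu1, Subgroup.mem_centralizer_singleton_iff]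
      have hmap : ∀ x ∈ (Q : Subgroup G), ∃ y ∈ T, γ * y * γ⁻¹ = x := fun x hx => by
        rw [← hγ] at hx
        obtain ⟨y, hy, rfl⟩ := hx
        exact ⟨y, hSeq ▸ hy, rfl⟩
      obtain ⟨v, hv, rfl⟩ := hmap q hq
      obtain ⟨w, hw, hwu⟩ := hmap u huQ'
      rw [← hwu]
      calc γ * v * γ⁻¹ * (γ * w * γ⁻¹) = γ * (v * w) * γ⁻¹ := by group
        _ = γ * (w * v) * γ⁻¹ := by rw [hTcomm v hv w hw]
        _ = _ := by group
    · rw [show Nat.card T = Nat.card (S : Subgroup G) by rw [hSeq]]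
      exact (Sylow.card_eq_multiplicity S).trans (Sylow.card_eq_multiplicity Q).symm |>.le
  have hTfix : ∀ u ∈ T, u • S = S := fun u hu => mem_stabilizer_iff.1 (by
    rw [Sylow.stabilizer_eq_normalizer]; exact Subgroup.le_normalizer (hSeq ▸ hu))
  have hreg : ∀ A B : Sylow 2 G, A ≠ S → B ≠ S → ∃ u ∈ T, u • A = B := by
    intro A B hA hB
    let f : T → {Q : Sylow 2 G // Q ≠ S} := fun u => ⟨(u : G) • A, fun h => hA (by
      rw [eq_comm, ← inv_smul_eq_iff, hTfix _ (inv_mem u.2)] at h
      exact h.symm)⟩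
    have hinj : Function.Injective f := fun u v huv => by
      have h : (u : G) • A = (v : G) • A := congrArg Subtype.val huv
      have := hTI _ (mul_mem (inv_mem v.2) u.2) A hA (by rw [mul_smul, h, inv_smul_smul])
      exact Subtype.ext (inv_mul_eq_one.1 this).symm
    haveI := Fintype.ofFinite (Sylow 2 G)
    have hc : Nat.card T = Nat.card {Q : Sylow 2 G // Q ≠ S} := by
      rw [hTcard, Nat.card_eq_fintype_card, Fintype.card_subtype_compl, Fintype.card_subtype_eq,
        ← Nat.card_eq_fintype_card, hOm]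
    obtain ⟨u, hu⟩ := ((Nat.bijective_iff_injective_and_card f).2 ⟨hinj, hc⟩).2 ⟨B, hB⟩
    exact ⟨u, u.2, congrArg Subtype.val hu⟩
  have h2t : IsMultiplyPretransitive G (Sylow 2 G) 2 := by
    rw [is_two_pretransitive_iff]
    intro A B A' B' hAB hAB'
    obtain ⟨γ, hγ⟩ := MulAction.exists_smul_eq G A S
    obtain ⟨δ, hδ⟩ := MulAction.exists_smul_eq G A' S
    obtain ⟨u, hu, huB⟩ := hreg (γ • B) (δ • B')
      (fun h => hAB (smul_left_cancel γ (hγ.trans h.symm)))
      (fun h => hAB' (smul_left_cancel δ (hδ.trans h.symm)))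
    refine ⟨δ⁻¹ * u * γ, ?_, ?_⟩
    · rw [mul_smul, mul_smul, hγ, hTfix u hu, inv_smul_eq_iff, hδ]
    · rw [mul_smul, mul_smul, huB, inv_smul_smul]
  have h3 : ∀ z : G, ∀ A B C : Sylow 2 G, A ≠ B → B ≠ C → A ≠ C → z • A = A → z • B = B →
      z • C = C → z = 1 := by
    intro z A B C hAB hBC hAC hA hB hC'
    obtain ⟨γ, hγ⟩ := MulAction.exists_smul_eq G A S
    suffices γ * z * γ⁻¹ = 1 by exact conj_eq_one_iff.1 this
    have fixS : ∀ X : Sylow 2 G, z • X = X → (γ * z * γ⁻¹) • (γ • X) = γ • X := fun X hX => by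
      rw [mul_smul, mul_smul, inv_smul_smul, hX]
    have fA := fixS A hA
    rw [hγ] at fA
    have fB := fixS B hB
    have fC := fixS C hC'
    have hBS : γ • B ≠ S := fun h => hAB (smul_left_cancel γ (hγ.trans h.symm))
    have hCS : γ • C ≠ S := fun h => hAC (smul_left_cancel γ (hγ.trans h.symm))
    have hBC' : γ • B ≠ γ • C := fun h => hBC (smul_left_cancel γ h)
    generalize γ * z * γ⁻¹ = w at fA fB fC ⊢
    obtain ⟨u, hu, huB⟩ := hreg _ _ hBS hCS
    have hwN : w ∈ Subgroup.normalizer ((S : Subgroup G) : Set G) := by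
      have := mem_stabilizer_iff.2 fA
      rwa [Sylow.stabilizer_eq_normalizer] at this
    have hwu : w * u * w⁻¹ ∈ T := by
      have := (Subgroup.mem_normalizer_iff.1 hwN u).1 (hSeq ▸ hu)
      rwa [hSeq] at this
    have heq : u⁻¹ * (w * u * w⁻¹) = 1 := by
      refine hTI _ (mul_mem (inv_mem hu) hwu) (γ • B) hBS ?_
      rw [mul_smul, mul_smul, mul_smul, inv_smul_eq_iff.2 fB.symm, huB, fC, ← huB, inv_smul_smul]
    have hu1 : u ≠ 1 := fun h => hBC' (by rw [← huB, h, one_smul])
    have hwT : w ∈ T := by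
      rw [← hcentT u hu hu1, Subgroup.mem_centralizer_singleton_iff]
      exact mul_inv_eq_iff_eq_mul.1 (inv_mul_eq_one.1 heq).symm
    exact hTI w hwT _ hBS fB
  haveI : Nontrivial (Sylow 2 G) := Finite.one_lt_card_iff_nontrivial.1 (by omega)
  obtain ⟨R, hR⟩ := exists_ne S
  have hab : S ≠ R := hR.symm
  have hpair : Nat.card (CfsgLib.Perm.ZassG.pairStab G S R) = p - 2 := by
    let f : T × CfsgLib.Perm.ZassG.pairStab G S R → stabilizer G S := fun q =>
      ⟨(q.1 : G) * q.2, mul_mem (mem_stabilizer_iff.2 (hTfix _ q.1.2)) q.2.2.1⟩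
    have hbij : Function.Bijective f := by
      constructor
      · intro q r h
        have h' : (q.1 : G) * q.2 = r.1 * r.2 := congrArg Subtype.val h
        have h1 := congrArg (· • R) h'
        simp only [mul_smul, mem_stabilizer_iff.1 q.2.2.2, mem_stabilizer_iff.1 r.2.2.2] at h1
        have h2 := hTI _ (mul_mem (inv_mem r.1.2) q.1.2) R hR (by rw [mul_smul, h1, inv_smul_smul])
        have e1 : q.1 = r.1 := Subtype.ext (inv_mul_eq_one.1 h2).symm
        rw [e1] at h'
        exact Prod.ext e1 (Subtype.ext (mul_left_cancel h'))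
      · rintro ⟨w, hw⟩
        obtain ⟨u, hu, huR⟩ := hreg R (w • R) hR (fun h => hR (smul_left_cancel w (h.trans hw.symm)))
        refine ⟨(⟨u, hu⟩, ⟨u⁻¹ * w, ?_, ?_⟩), Subtype.ext (mul_inv_cancel_left u w)⟩
        · show (u⁻¹ * w) • S = S
          rw [mul_smul, hw, hTfix _ (inv_mem hu)]
        · show (u⁻¹ * w) • R = R
          rw [mul_smul, ← huR, inv_smul_smul]
    have h := Nat.card_eq_of_bijective f hbij
    rw [Nat.card_prod, hTcard, show Nat.card (stabilizer G S) = (p - 2) * (p - 1) from by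
      rw [Sylow.stabilizer_eq_normalizer]; exact hcardN, mul_comm (p - 2)] at h
    exact Nat.eq_of_mul_eq_mul_left (by omega) h
  have hZ : Cfsg.IsZassenhausGroup G (Sylow 2 G) := by
    refine ⟨inferInstance, h2t, h3, ?_, fun M hM hMt => ?_⟩
    · have : Nontrivial (CfsgLib.Perm.ZassG.pairStab G S R) :=
        Finite.one_lt_card_iff_nontrivial.1 (by omega)
      obtain ⟨z, hz⟩ := exists_ne (1 : CfsgLib.Perm.ZassG.pairStab G S R)
      exact ⟨z, fun h => hz (Subtype.ext h), S, R, hab, z.2.1, z.2.2⟩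
    · rcases IsSimpleGroup.eq_bot_or_eq_top_of_normal M hM with hb | htop
      · exfalso
        obtain ⟨⟨z, hz⟩, hzR⟩ := hMt.exists_smul_eq S R
        rw [hb, Subgroup.mem_bot] at hz
        subst hz
        exact hR (hzR.symm.trans (one_smul _ S))
      · refine ⟨S, fun hbot => hg1 ?_⟩
        have hgT : g ∈ T := hT ▸ Subgroup.mem_centralizer_singleton_iff.2 rfl
        have hm' : (⟨g, htop ▸ Subgroup.mem_top g⟩ : M) ∈ stabilizer M S := hTfix g hgT
        rw [hbot, Subgroup.mem_bot] at hm'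
        exact congrArg Subtype.val hm'
  obtain ⟨K, hK, hK', hq, ⟨i⟩⟩ := CfsgLib.Perm.ZassG.exists_pgl_of_odd hZ hab
    (by rw [hpair, hOm]; omega) (by rw [hOm]; exact hp.odd_of_ne_two hp2)
  rw [hOm, Nat.card_eq_fintype_card] at hq
  obtain ⟨j⟩ := nonempty_pgl_equiv_sl K (by
    rw [show Fintype.card K = p - 1 by omega]
    exact hp.even_sub_one hp2)
  exact ⟨m, K, hK, hK', by omega, hpm, hp3, ⟨i.trans j⟩⟩

end CfsgLib.Brauer43
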